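import Groth.Agent.Luna12.Main
import Groth.Agent.AGFQuot23.NeutralSub
import Groth.Agent.AGFImage11.SolvRadical
import Groth.Agent.AGFImage11.GeomUnip
import Groth.Agent.AGFImage11.CommTorus

/-!
# In a reductive group a maximal torus is its own centralizer
-/

set_option autoImplicit false
set_option backward.isDefEq.respectTransparency.types false
set_option maxHeartbeats 2000000
set_option synthInstance.maxHeartbeats 400000
set_option linter.style.haveILetI false

universe u

open CategoryTheory CategoryTheory.Limits MonoidalCategory CartesianMonoidalCategory MonObj GrpObj AlgebraicGeometry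
open Groth.Agent.AlgGrpLib (ptOf)
open Groth.Agent.AGFQuot23 (cj)

noncomputable section

namespace Groth.Agent.Luna12

variable {k : Type u} [Field k] [IsAlgClosed k]

/-- In a reductive group over an algebraically closed field the centralizer of a maximal torus is the torus. -/
theorem isIso_centralizer {G T C : Over (Spec (CommRingCat.of k))} [GrpObj G] [GrpObj T] [GrpObj C]
    (hG : Red.IsReductiveOver k G) {i : T ⟶ G} (hT : AGF.IsMaxTorus i) {c : C ⟶ G}
    (hC : Red.IsCentralizerOf i c) : ∃ tC : T ⟶ C, IsIso tC ∧ tC ≫ c = i := by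
  haveI := hG.1; haveI := hG.2.1; haveI := hG.2.2.1
  haveI := hT.1
  haveI := hT.2.1
  haveI := hC.1
  haveI := hC.2.1
  have hTt : Red.IsTorus T := hT.2.2.1
  haveI : QuasiCompact G.hom := (quasiCompact_iff_compactSpace G.hom).2 inferInstance
  obtain ⟨hCsm, hCcl⟩ := CentConn12.smooth_closed hTt i hC
  haveI := hCsm; haveI := hCcl
  haveI : IsAffine C.left := isAffine_of_isAffineHom c.left
  haveI : ConnectedSpace C.left := CentConn12.connected_affine hTt i hC
  obtain ⟨S, _, s, π, hS, hs, hπ, hsπ, huniv⟩ :=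
    HMTor29.MaxTorus.exists_complement (H := C) (AGFQuot23.isSolvableGrp_centralizer_maxTorus hT hC)
  haveI := hs; haveI := hπ
  obtain ⟨H, _, iH, hiH, hHcl, hHa, hHs, hHc, hHt, hHlift⟩ := exists_kernel s π hsπ hS huniv
  haveI := hiH; haveI := hHcl; haveI := hHa; haveI := hHs; haveI := hHc
  haveI : IsMonHom (iH ≫ c) := inferInstance
  obtain ⟨B, _, iB, hB, hVB⟩ := exists_borel_conj_mem hT hC
  haveI := hB.1; haveI := hB.2.1; haveI := hB.2.2.1
  haveI : Mono iB := Over.mono_of_mono_left iB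
  have hV := hVB H (iH ≫ c) hHt fun x => ⟨x ≫ iH, by rw [Category.assoc]⟩
  let bh : (𝟙_ (Over (Spec (CommRingCat.of k))) ⟶ B) →* (𝟙_ (Over (Spec (CommRingCat.of k))) ⟶ G) :=
    MonoidHom.mk' (fun x => x ≫ iB) fun x y => MonObj.mul_comp x y iB
  let N : Subgroup (𝟙_ (Over (Spec (CommRingCat.of k))) ⟶ G) :=
    ⨅ g : 𝟙_ (Over (Spec (CommRingCat.of k))) ⟶ G, bh.range.comap (MulAut.conj g⁻¹).toMonoidHom
  have hN : ∀ x, x ∈ N ↔ ∀ g, ∃ b, b ≫ iB = g⁻¹ * x * g := fun x => by
    simp only [N, Subgroup.mem_iInf, Subgroup.mem_comap, MonoidHom.mem_range, MulEquiv.coe_toMonoidHom,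
      MulAut.conj_apply, _root_.inv_inv]
    exact Iff.rfl
  obtain ⟨R, _, iR, hiR, hRcl, hRsm, hRconn, hRN, hRuniv⟩ := AGFQuot23.exists_neutral_subgroup (G := G) N (by
    intro g hg
    refine (hN g).2 fun g' => ?_
    have h1 : closure (ptOf '' (N : Set _)) ⊆ (cj g').left.base ⁻¹' Set.range iB.left.base := by
      refine closure_minimal ?_ (iB.left.isClosedEmbedding.isClosed_range.preimage (cj g').left.continuous)
      rintro _ ⟨x, hx, rfl⟩
      obtain ⟨b, hb⟩ := (hN x).1 hx g'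
      exact ⟨ptOf b, show ptOf (b ≫ iB) = ptOf (x ≫ cj g') by rw [comp_cj, hb]⟩
    obtain ⟨b, hb⟩ := AGFQuot23.exists_point_of_mem iB (g ≫ cj g') (h1 hg)
    exact ⟨b, by rw [hb, comp_cj]⟩)
  haveI := hiR; haveI := hRcl; haveI := hRsm; haveI := hRconn
  haveI : Mono iR := Over.mono_of_mono_left iR
  haveI : IsAffine R.left := isAffine_of_isAffineHom iR.left
  haveI : IsReduced R.left := AbSchLib.isReduced_of_smooth R.hom
  haveI : QuasiCompact R.hom := (quasiCompact_iff_compactSpace R.hom).2 inferInstance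
  -- normality
  have hnorm : AlgGrp.IsNormalHom iR := by
    have hpt : ∀ (g : 𝟙_ (Over (Spec (CommRingCat.of k))) ⟶ G) (r : 𝟙_ (Over (Spec (CommRingCat.of k))) ⟶ R),
        ∃ r', r' ≫ iR = g * (r ≫ iR) * g⁻¹ := fun g r => by
      haveI : IsMonHom (iR ≫ cj g⁻¹) := inferInstance
      obtain ⟨f, hf⟩ := hRuniv R (iR ≫ cj g⁻¹) fun b => (hN _).2 fun g' => by
        obtain ⟨b', hb'⟩ := (hN _).1 (hRN b) (g⁻¹ * g')
        refine ⟨b', ?_⟩
        rw [hb', ← Category.assoc, comp_cj]
        group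
      exact ⟨r ≫ f, by rw [Category.assoc, hf, ← Category.assoc, comp_cj, _root_.inv_inv]⟩
    haveI : IsReduced (G ⊗ R).left := by
      haveI : IsReduced G.left := AbSchLib.isReduced_of_smooth G.hom
      exact AlgGrpLib.isReduced_tensor G R
    haveI : LocallyOfFiniteType (G ⊗ R).hom := by
      change LocallyOfFiniteType (pullback.fst G.hom R.hom ≫ G.hom)
      infer_instance
    obtain ⟨l, hl⟩ := AGFQuot23.exists_lift_of_points' (fst G R * (snd G R ≫ iR) * (fst G R)⁻¹) iR fun b => by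
      obtain ⟨r', hr'⟩ := hpt (b ≫ fst G R) (b ≫ snd G R)
      exact ⟨ptOf r', show ptOf (r' ≫ iR) = _ by
        rw [hr']; simp only [MonObj.comp_mul, GrpObj.comp_inv, Category.assoc]⟩
    intro X g n
    refine ⟨lift g n ≫ l, ?_⟩
    rw [Category.assoc, hl]
    simp only [MonObj.comp_mul, GrpObj.comp_inv, lift_fst, lift_snd_assoc]
  -- solvability
  obtain ⟨rB, hrB⟩ := AGFQuot23.exists_lift_of_points' iR iB fun x => by
    obtain ⟨b, hb⟩ := (hN _).1 (hRN x) 1
    rw [inv_one, _root_.one_mul, _root_.mul_one] at hb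
    exact ⟨ptOf b, show ptOf (b ≫ iB) = _ by rw [hb]⟩
  haveI : IsMonHom (rB ≫ iB) := by rw [hrB]; infer_instance
  haveI := AGFQuot23.isMonHom_of_comp_mono' rB iB
  haveI : Mono rB := by
    haveI : Mono (rB ≫ iB) := by rw [hrB]; infer_instance
    exact mono_of_mono rB iB
  have hRs : Red.IsSolvableGrp R := AGFQuot23.isSolvableGrp_of_mono rB hB.2.2.2.2.1
  have hRt : Red.IsTorus R := AGFImage11.isTorus_of_solvable_reductive
    (AGFImage11.isReductiveOver_of_normal hG iR hnorm) hRs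
  -- the kernel of the projection is trivial
  obtain ⟨q, hq⟩ := hRuniv H (iH ≫ c) fun x => (hN _).2 fun g => hV x g
  haveI : IsMonHom (q ≫ iR) := by rw [hq]; infer_instance
  haveI := AGFQuot23.isMonHom_of_comp_mono' q iR
  have hker : ∀ x : 𝟙_ (Over (Spec (CommRingCat.of k))) ⟶ H, x ≫ iH = 1 := fun x => by
    rw [← cancel_mono c, Category.assoc, ← hq, ← Category.assoc, pt_to_torus_eq_one hHt hRt q x, MonObj.one_comp,
      MonObj.one_comp]
  haveI : IsReduced C.left := AbSchLib.isReduced_of_smooth C.hom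
  have hπs : π ≫ s = 𝟙 C := AGFQuot23.hom_ext_of_points _ _ fun x => by
    obtain ⟨h, hh⟩ := hHlift (x * (x ≫ π ≫ s)⁻¹) (by
      rw [MonObj.mul_comp, GrpObj.inv_comp]
      simp only [Category.assoc, hsπ, Category.comp_id, mul_inv_cancel])
    rw [hker h] at hh
    rw [Category.comp_id]
    exact (mul_inv_eq_one.1 hh.symm).symm
  haveI : IsIso π := ⟨s, hπs, hsπ⟩
  have hCt : Red.IsTorus C := AGFImage11.isTorus_of_iso π hS
  obtain ⟨tC, htC⟩ := (hC.2.2 T i).2 fun X' x y => by
    rw [← MonObj.mul_comp, ← MonObj.mul_comp, SGA3cLib.torus_mul_comm hTt]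
  exact ⟨tC, hT.2.2.2 C c tC hCt htC, htC⟩

/-- In a reductive group over an algebraically closed field a maximal torus is its own centralizer. -/
theorem isCentralizerOf_self {G T : Over (Spec (CommRingCat.of k))} [GrpObj G] [GrpObj T]
    (hG : Red.IsReductiveOver k G) {i : T ⟶ G} (hT : AGF.IsMaxTorus i) : Red.IsCentralizerOf i i := by
  haveI := hT.1
  haveI := hT.2.1
  haveI := hG.1; haveI := hG.2.1
  haveI : IsSeparated G.hom := SGA3xLib.isSeparated_of_grpObj G
  obtain ⟨Z, gZ, z, hz, -, -⟩ := SGA3cLib.MTTransporter.exists_centralizer i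
    (SGA3cLib.CentralFib.locally_of_multTypeFT (MultExt26.isMultTypeFT_of_torus T hT.2.2.1))
  letI := gZ
  obtain ⟨tC, htC, e⟩ := isIso_centralizer hG hT hz
  haveI := htC
  refine ⟨inferInstance, inferInstance, fun X g => ⟨fun ⟨w, hw⟩ => ?_, fun h => ?_⟩⟩
  · exact (hz.2.2 X g).1 ⟨w ≫ tC, by rw [Category.assoc, e, hw]⟩
  · obtain ⟨w, hw⟩ := (hz.2.2 X g).2 h
    exact ⟨w ≫ CategoryTheory.inv tC, by rw [← hw, Category.assoc, ← e, IsIso.inv_hom_id_assoc]⟩

end Groth.Agent.Luna12
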