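import Groth.Agent.AGFQuot23.TorusBorel
import Groth.Agent.AlgGrpLib.NoTorusScheme
import Groth.Agent.CohDer1.PointedSplit.Eigen
import Groth.Agent.UnipStruct.Unip
import Groth.Agent.CentImg12.Basic
import Groth.Agent.S5443

/-!
# Unipotent groups: orbits, homomorphisms to tori; fixed points in closed stable subsets
-/

set_option autoImplicit false
set_option backward.isDefEq.respectTransparency.types false
set_option maxHeartbeats 1000000
set_option synthInstance.maxHeartbeats 400000
set_option linter.style.haveILetI false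

universe u

open CategoryTheory CategoryTheory.Limits MonoidalCategory CartesianMonoidalCategory MonObj GrpObj AlgebraicGeometry
open Groth.Agent.AlgGrpLib (ptOf)
open Groth.Agent.HopfQuot (spec exists_spec exists_specHom specHom)
open WithConv

noncomputable section

namespace Groth.Agent.Luna12

variable {k : Type u} [Field k] [IsAlgClosed k]

/-- A smooth connected group without subtori has a unipotent coordinate ring. -/
theorem exists_unipotent_spec (V : Over (Spec (CommRingCat.of k))) [GrpObj V] [IsAffine V.left] [Smooth V.hom]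
    [ConnectedSpace V.left] (hV : Red.HasNoSubtorus k V) :
    ∃ (A : Type u) (_ : CommRing A) (_ : HopfAlgebra k A) (e : spec (k := k) A ⟶ V),
      IsIso e ∧ IsMonHom e ∧ Algebra.FiniteType k A ∧ HopfRep.IsUnipotent k A := by
  obtain ⟨A, _, _, e, he, hem⟩ := exists_spec (k := k) V
  haveI := he; haveI := hem
  haveI := UnipStruct.finiteType_of_iso e
  exact ⟨A, inferInstance, inferInstance, e, he, hem, inferInstance,
    AlgGrpLib.NoTorus.isUnipotent_of_hasNoSubtorus hV e⟩

/-- Homomorphisms from groups without subtori to tori are trivial on rational points. -/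
theorem pt_to_torus_eq_one {V S : Over (Spec (CommRingCat.of k))} [GrpObj V] [GrpObj S] [IsAffine V.left]
    [Smooth V.hom] [ConnectedSpace V.left] (hV : Red.HasNoSubtorus k V) (hS : Red.IsTorus S) (f : V ⟶ S) [IsMonHom f]
    (x : 𝟙_ (Over (Spec (CommRingCat.of k))) ⟶ V) : x ≫ f = 1 := by
  obtain ⟨A, _, _, e, he, hem, _, hU⟩ := exists_unipotent_spec V hV
  haveI := he; haveI := hem
  obtain ⟨N, _, r, ε, eT, _, _⟩ := HMTor29.MaxTorus.isFreeDiag_of_isTorus S hS
  haveI : IsMonHom (CategoryTheory.inv eT) := inferInstanceAs (IsMonHom (asIso eT).inv)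
  haveI : IsMonHom (e ≫ f ≫ CategoryTheory.inv eT) := inferInstance
  obtain ⟨φ, hφ⟩ := exists_specHom (k := k) (e ≫ f ≫ CategoryTheory.inv eT)
  obtain ⟨w, hw⟩ := CentConn12.ratPt_surjective (x ≫ CategoryTheory.inv e)
  have h1 : toConv (w.ofConv.comp (φ : MonoidAlgebra k N →ₐ[k] A)) = (1 : HopfQuot.Pt k (MonoidAlgebra k N) k) := by
    refine CentConn12.pt_ext fun n => ?_
    rw [map_one]
    show w.ofConv (φ (MonoidAlgebra.single n (1 : k))) = 1
    rw [CohDer1.PointedSplit.groupLike_eq_one_of_isUnipotent hU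
      ((MonoidAlgebra.isGroupLikeElem_single_one (R := k) (A := k) n).map φ), map_one]
  have h2 := congrArg (fun f => AGFQuot23.ratPt w ≫ f) hφ
  rw [AGFQuot23.ratPt_comp, h1, AGFQuot23.ratPt_one, hw] at h2
  simp only [Category.assoc, IsIso.inv_hom_id_assoc] at h2
  have h3 := congrArg (fun f => f ≫ eT) h2
  simpa only [MonObj.one_comp, Category.assoc, IsIso.inv_hom_id, Category.comp_id] using h3.symm

/-- Homomorphisms from tori to groups without subtori are trivial. -/
theorem torus_to_eq_one {V P : Over (Spec (CommRingCat.of k))} [GrpObj V] [GrpObj P] [IsAffine V.left]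
    [Smooth V.hom] [ConnectedSpace V.left] (hV : Red.HasNoSubtorus k V) (hP : Red.IsTorus P) (f : P ⟶ V) [IsMonHom f] :
    f = 1 := by
  obtain ⟨A, _, _, e, he, hem, _, hU⟩ := exists_unipotent_spec V hV
  haveI := he; haveI := hem
  exact AlgGrpLib.TorusUnip.hom_eq_one hP e hU f

/-- Products of groups without subtori have no subtori. -/
theorem hasNoSubtorus_tensor {V W : Over (Spec (CommRingCat.of k))} [GrpObj V] [GrpObj W] [IsAffine V.left]
    [Smooth V.hom] [ConnectedSpace V.left] [IsAffine W.left] [Smooth W.hom] [ConnectedSpace W.left]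
    (hV : Red.HasNoSubtorus k V) (hW : Red.HasNoSubtorus k W) : Red.HasNoSubtorus k (V ⊗ W) := by
  intro P _ j _ _ hP
  refine AlgGrpLib.TorusUnip.isIso_hom_of_mono_one j (CartesianMonoidalCategory.hom_ext _ _ ?_ ?_)
  · rw [torus_to_eq_one hV hP (j ≫ fst V W), MonObj.one_comp]
  · rw [torus_to_eq_one hW hP (j ≫ snd V W), MonObj.one_comp]

/-- Orbits of groups without subtori on affine schemes are closed. -/
theorem isClosed_orbit {L X : Over (Spec (CommRingCat.of k))} [GrpObj L] [IsAffine L.left] [Smooth L.hom]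
    [ConnectedSpace L.left] (hL : Red.HasNoSubtorus k L) [LocallyOfFiniteType X.hom] [IsAffine X.left]
    (a : AlgGrp.Action L X) (x : 𝟙_ (Over (Spec (CommRingCat.of k))) ⟶ X) :
    IsClosed (Set.range (a.orbitMap x).left.base) := by
  obtain ⟨A, _, _, e, he, hem, _, hU⟩ := exists_unipotent_spec L hL
  haveI := he; haveI := hem
  have hqa : Mor2.IsQuasiAffine X.hom := by
    refine ⟨inferInstance, fun V hV => ?_⟩
    haveI : IsAffine (X.hom ⁻¹ᵁ V : Scheme.{u}) := (hV.preimage X.hom)
    infer_instance
  have h := S5443.result k A hU X hqa (AGFQuot23.restrictAction a e) x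
  have he' : (AGFQuot23.restrictAction a e).orbitMap x = e ≫ a.orbitMap x := by
    simp only [AlgGrp.Action.orbitMap, AGFQuot23.restrictAction]
    rw [lift_whiskerRight_assoc, comp_lift_assoc]
    congr 2
    rw [← Category.assoc, comp_toUnit]
  haveI : IsIso e.left := inferInstanceAs (IsIso ((Over.forget _).map e))
  rw [he', Over.comp_left, Scheme.Hom.comp_base, TopCat.coe_comp, e.left.surjective.range_comp] at h
  exact h

/-- A point fixed by a connected solvable group in a closed stable subset of a proper scheme. -/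
theorem exists_fixed_in_closed {H X : Over (Spec (CommRingCat.of k))} [GrpObj H] [IsAffine H.left] [Smooth H.hom]
    [ConnectedSpace H.left] [Group.IsSolvable (𝟙_ (Over (Spec (CommRingCat.of k))) ⟶ H)]
    [IsProper X.hom] (a : AlgGrp.Action H X) (Z : Set X.left) (hZ : IsClosed Z) (hne : Z.Nonempty)
    (hst : ∀ (h : 𝟙_ (Over (Spec (CommRingCat.of k))) ⟶ H) (x : 𝟙_ (Over (Spec (CommRingCat.of k))) ⟶ X),
      ptOf x ∈ Z → ptOf (lift h x ≫ a.act) ∈ Z) :
    ∃ z : 𝟙_ (Over (Spec (CommRingCat.of k))) ⟶ X, ptOf z ∈ Z ∧ ∀ h, lift h z ≫ a.act = z := by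
  haveI : QuasiCompact H.hom := (quasiCompact_iff_compactSpace H.hom).2 inferInstance
  let C : TopologicalSpace.Closeds X.left := ⟨Z, hZ⟩
  let I := Scheme.IdealSheafData.vanishingIdeal C
  let W : Over (Spec (CommRingCat.of k)) := Over.mk (I.subschemeι ≫ X.hom)
  let j : W ⟶ X := Over.homMk I.subschemeι rfl
  haveI : IsClosedImmersion j.left := inferInstanceAs (IsClosedImmersion I.subschemeι)
  haveI : Mono j := Over.mono_of_mono_left j
  have hrange : Set.range j.left = Z := by
    change Set.range I.subschemeι = _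
    rw [Scheme.IdealSheafData.range_subschemeι]
    rfl
  haveI : IsReduced W.left := (Props12.isReduced_subscheme_vanishingIdeal C : IsReduced I.subscheme)
  haveI : IsProper W.hom := inferInstanceAs (IsProper (I.subschemeι ≫ X.hom))
  haveI : IsReduced H.left := AbSchLib.isReduced_of_smooth H.hom
  haveI : LocallyOfFiniteType (H ⊗ W).hom := by
    change LocallyOfFiniteType (pullback.fst H.hom W.hom ≫ H.hom)
    infer_instance
  haveI := AlgGrpLib.isReduced_tensor H W
  haveI : Nonempty W.left := by
    obtain ⟨x, hx⟩ := hne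
    obtain ⟨y, -⟩ := hrange.ge hx
    exact ⟨y⟩
  obtain ⟨act, hact⟩ := AGFQuot23.exists_lift_of_points' ((H ◁ j) ≫ a.act) j fun b => by
    rw [hrange, ← Category.assoc b, show b ≫ (H ◁ j) = lift (b ≫ fst H W) ((b ≫ snd H W) ≫ j) by
      refine CartesianMonoidalCategory.hom_ext _ _ ?_ ?_ <;> simp]
    exact hst _ _ (hrange.le ⟨ptOf (b ≫ snd H W), rfl⟩)
  let aW : AlgGrp.Action H W :=
    { act := act
      one_act := by
        rw [← cancel_mono j, Category.assoc, hact, ← whisker_exchange_assoc, a.one_act, leftUnitor_naturality]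
      mul_act := by
        rw [← cancel_mono j]
        simp only [Category.assoc, hact]
        rw [← whisker_exchange_assoc, a.mul_act, ← MonoidalCategory.whiskerLeft_comp_assoc, hact,
          MonoidalCategory.whiskerLeft_comp_assoc]
        simp }
  obtain ⟨x, hx⟩ := AlgGrpLib.BorelFixed.exists_isFixedPt H W aW
  refine ⟨x ≫ j, hrange.le ⟨ptOf x, rfl⟩, fun h => ?_⟩
  have h1 : lift h x ≫ act = x := by
    have h2 := hx (𝟙_ _) h
    rwa [toUnit_unique (toUnit _) (𝟙 _), Category.id_comp] at h2
  calc lift h (x ≫ j) ≫ a.act = lift h x ≫ (H ◁ j) ≫ a.act := by rw [lift_whiskerLeft_assoc]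
    _ = x ≫ j := by rw [← hact, ← Category.assoc, h1]

end Groth.Agent.Luna12
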