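import Groth.Agent.CentConn12.Regular

/-!
# Regular cocharacters of tori
-/

set_option autoImplicit false
set_option backward.isDefEq.respectTransparency.types false
set_option maxHeartbeats 800000
set_option linter.style.haveILetI false

universe u

open LaurentPolynomial TensorProduct WithConv
open Groth.Agent.DynLib (Pt push pull conj pre tee cst)

noncomputable section

namespace Groth.Agent.Luna12

variable {N : Type u} [CommGroup N]

/-- A homomorphism to the integers separating a finite set of characters from each other. -/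
theorem exists_injOn {r : ℕ} (ε : N ≃* Multiplicative (Fin r → ℤ)) (F : Finset N) :
    ∃ χ : N →* Multiplicative ℤ, Set.InjOn χ (F : Set N) := by
  classical
  let v : N → N → Polynomial ℤ := fun a b => ∑ i : Fin r,
    Polynomial.C ((ε a).toAdd i - (ε b).toAdd i) * Polynomial.X ^ (i : ℕ)
  have hv : ∀ a b, a ≠ b → v a b ≠ 0 := by
    intro a b hab h0
    refine hab (ε.injective (Multiplicative.toAdd.injective (funext fun i => ?_)))
    have h1 := congrArg (fun p : Polynomial ℤ => p.coeff i) h0
    simp only [v, Polynomial.finsetSum_coeff, Polynomial.coeff_C_mul, Polynomial.coeff_X_pow, mul_ite, mul_one,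
      mul_zero, Polynomial.coeff_zero] at h1
    rw [Finset.sum_eq_single i (fun j _ hj => if_neg fun h => hj (Fin.ext h).symm) (fun h => absurd (Finset.mem_univ i) h),
      if_pos rfl, sub_eq_zero] at h1
    exact h1
  let Q : Polynomial ℤ := ∏ p ∈ F.offDiag, v p.1 p.2
  have hQ : Q ≠ 0 := Finset.prod_ne_zero_iff.2 fun p hp => hv _ _ (Finset.mem_offDiag.1 hp).2.2
  obtain ⟨M, hM⟩ := (Polynomial.finite_setOf_isRoot hQ).exists_notMem
  let φ : (Fin r → ℤ) →+ ℤ :=
    { toFun := fun f => ∑ i : Fin r, f i * M ^ (i : ℕ)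
      map_zero' := by simp
      map_add' := fun f g => by simp only [Pi.add_apply, add_mul, Finset.sum_add_distrib] }
  refine ⟨φ.toMultiplicative.comp ε.toMonoidHom, fun a ha b hb hab => ?_⟩
  by_contra hne
  refine hM ?_
  show Q.eval M = 0
  rw [Polynomial.eval_prod]
  refine Finset.prod_eq_zero (i := (a, b)) (Finset.mem_offDiag.2 ⟨ha, hb, hne⟩) ?_
  have h1 : φ (ε a).toAdd = φ (ε b).toAdd := congrArg Multiplicative.toAdd hab
  simp only [v, Polynomial.eval_finset_sum, Polynomial.eval_mul, Polynomial.eval_C, Polynomial.eval_pow,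
    Polynomial.eval_X, sub_mul, Finset.sum_sub_distrib]
  exact sub_eq_zero.2 h1

variable {k : Type u} [Field k] {A : Type u} [CommRing A] [HopfAlgebra k A]

open CentConn12

theorem eq_invert {R : Type u} [CommRing R] (f : R[T;T⁻¹]) (c : R) (hf : f = C c) (n : ℤ) :
    f.coeff n = if n = 0 then c else 0 := by
  subst hf
  rw [show (C c : R[T;T⁻¹]) = AddMonoidAlgebra.single 0 c from rfl, AddMonoidAlgebra.coeff_single, Finsupp.single_apply]
  simp [eq_comm]

/-- A cocharacter of a split torus with the same centralizer as the torus. -/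
theorem exists_regular [Algebra.FiniteType k A] {r : ℕ} (ε : N ≃* Multiplicative (Fin r → ℤ))
    (θ : A →ₐc[k] MonoidAlgebra k N) :
    ∃ χ : N →* Multiplicative ℤ, ∀ (R : Type u) [CommRing R] [Algebra k R] (g : Pt k A R),
      conj R ((cochar (k := k) χ).comp θ) g = push (cst k R) g →
        ∀ h : Pt k (MonoidAlgebra k N) R, Commute g (pull θ h) := by
  classical
  let uN : Pt k (MonoidAlgebra k N) (MonoidAlgebra A N) :=
    toConv (MonoidAlgebra.lift k (MonoidAlgebra A N) N (MonoidAlgebra.of A N))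
  let γg : Pt k A (MonoidAlgebra A N) := toConv (MonoidAlgebra.singleOneAlgHom : A →ₐ[k] MonoidAlgebra A N)
  let Φ : Pt k A (MonoidAlgebra A N) := pull θ uN * γg * (pull θ uN)⁻¹
  obtain ⟨t, ht⟩ := (‹Algebra.FiniteType k A›).out
  let F : Finset N := insert 1 (t.biUnion fun a => (Φ.ofConv a).coeff.support)
  obtain ⟨χ, hχ⟩ := exists_injOn ε F
  refine ⟨χ, fun R _ _ g hg h => ?_⟩
  have hsum : ∀ (S : Type u) [CommRing S] [Algebra k S] (g : Pt k A S) (h : Pt k (MonoidAlgebra k N) S), ∀ a ∈ t,
      (pull θ h * g * (pull θ h)⁻¹).ofConv a =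
        ∑ n ∈ F, g.ofConv ((Φ.ofConv a).coeff n) * h.ofConv (MonoidAlgebra.single n 1) := by
    intro S _ _ g h a ha
    let ev : MonoidAlgebra A N →ₐ[k] S := MonoidAlgebra.liftNCAlgHom g.ofConv
      (h.ofConv.toMonoidHom.comp (MonoidAlgebra.of k N)) fun _ _ => Commute.all _ _
    have hev1 : ∀ (n : N) (b : A), ev (MonoidAlgebra.single n b) = g.ofConv b * h.ofConv (MonoidAlgebra.single n 1) :=
      fun n b => MonoidAlgebra.liftNC_single _ _ _ _
    have hevu : push ev uN = h := pt_ext fun n => by
      show ev (MonoidAlgebra.lift k (MonoidAlgebra A N) N (MonoidAlgebra.of A N) (MonoidAlgebra.single n 1)) = _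
      rw [MonoidAlgebra.lift_single, one_smul, MonoidAlgebra.of_apply, hev1, map_one, _root_.one_mul]
      rfl
    have hevg : push ev γg = g := WithConv.ext (AlgHom.ext fun b => by
      show ev (MonoidAlgebra.single 1 b) = g.ofConv b
      rw [hev1, ← MonoidAlgebra.one_def, map_one, _root_.mul_one])
    have h1 : push ev (pull θ uN) = pull θ h := by rw [← congrArg (pull θ) hevu]; rfl
    have hΦ : push ev Φ = pull θ h * g * (pull θ h)⁻¹ := by simp only [Φ, map_mul, map_inv, h1, hevg]
    rw [← hΦ]
    show ev (Φ.ofConv a) = _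
    conv_lhs => rw [← (Φ.ofConv a).sum_coeff_single]
    rw [Finsupp.sum_of_support_subset _ (s := F) (fun n hn => Finset.mem_insert_of_mem
      (Finset.mem_biUnion (s := t) (t := fun a => (Φ.ofConv a).coeff.support).2 ⟨a, ha, hn⟩))
      _ (fun n _ => MonoidAlgebra.single_zero n), map_sum]
    simp only [hev1]
  have hcoef : ∀ a ∈ t, ∀ n ∈ F, g.ofConv ((Φ.ofConv a).coeff n) = if n = 1 then g.ofConv a else 0 := by
    intro a ha n₀ hn₀
    have h1 := hsum R[T;T⁻¹] (push (cst k R) g) (toConv ((tee k R).comp (cochar (k := k) χ : MonoidAlgebra k N →ₐ[k] k[T;T⁻¹]))) a ha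
    have h2 : pull θ (toConv ((tee k R).comp (cochar (k := k) χ : MonoidAlgebra k N →ₐ[k] k[T;T⁻¹]))) =
        pre ((cochar (k := k) χ).comp θ) (tee k R) := rfl
    rw [h2, ← DynLib.conj_apply, hg] at h1
    have h3 := congrArg (fun f : R[T;T⁻¹] => f.coeff (χ n₀).toAdd) h1
    have e1 : ∀ b : A, (push (cst k R) g).ofConv b = C (g.ofConv b) := fun b => DynLib.cst_apply (k := k) _
    have e2 : ∀ n : N, (toConv ((tee k R).comp (cochar (k := k) χ : MonoidAlgebra k N →ₐ[k] k[T;T⁻¹]))).ofConv
        (MonoidAlgebra.single n (1 : k)) = T (χ n).toAdd := fun n => by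
      show tee k R (cochar (k := k) χ (MonoidAlgebra.single n 1)) = _
      rw [cochar_single, DynLib.tee_T]
    simp only [e1, e2, ← single_eq_C_mul_T, AddMonoidAlgebra.coeff_sum, AddMonoidAlgebra.coeff_single,
      Finsupp.finsetSum_apply, Finsupp.single_apply] at h3
    rw [eq_invert _ _ rfl, Finset.sum_eq_single n₀ (fun m hm hne => if_neg fun hh => hne (hχ hm hn₀ (Multiplicative.toAdd.injective hh)))
      (fun hh => absurd hn₀ hh), if_pos rfl] at h3
    rw [← h3]
    refine if_congr ⟨fun hh => ?_, fun hh => by rw [hh, map_one]; rfl⟩ rfl rfl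
    exact hχ hn₀ (Finset.mem_insert_self _ _) (by rw [map_one]; exact Multiplicative.toAdd.injective hh)
  have hconj : pull θ h * g * (pull θ h)⁻¹ = g := by
    refine WithConv.ext (AlgHom.ext_of_adjoin_eq_top ht fun a ha => ?_)
    rw [hsum R g h a ha, Finset.sum_congr rfl (fun n hn => by rw [hcoef a ha n hn])]
    simp [F, ← MonoidAlgebra.one_def]
  exact (mul_inv_eq_iff_eq_mul.1 hconj).symm

end Groth.Agent.Luna12
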