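import Groth.Agent.Luna12.Basics
import Groth.Agent.Luna12.Regular
import Groth.Agent.CentConn12.ConjDenseSch
import Groth.Agent.AGFQuot23.CellConj
import Groth.Agent.AGFQuot23.CentTorusSolvable
import Groth.Agent.AGFQuot23.UnipRadical
import Groth.Agent.DynLib.FlatHom26
import Groth.Agent.S3304
import Groth.Agent.S3267
import Groth.Agent.UnipStruct.VecGroup
import Groth.Agent.AlgGrpLib.AxesTorus

/-!
# The cell of a regular cocharacter of a maximal torus
-/

set_option autoImplicit false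
set_option backward.isDefEq.respectTransparency.types false
set_option maxHeartbeats 2000000
set_option synthInstance.maxHeartbeats 400000
set_option linter.style.haveILetI false

universe u

open CategoryTheory CategoryTheory.Limits MonoidalCategory CartesianMonoidalCategory MonObj GrpObj AlgebraicGeometry
open Groth.Agent.AlgGrpLib (ptOf)
open Groth.Agent.HopfQuot (spec exists_spec exists_specHom specHom)
open Groth.Agent.DynLib (Pt push pull conj pre tee cst limSub oneSub limIdeal oneIdeal invertHom cellHom)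
open WithConv LaurentPolynomial TensorProduct

noncomputable section

namespace Groth.Agent.Luna12

variable {k : Type u} [Field k] [IsAlgClosed k]

section Hopf

variable {A : Type u} [CommRing A] [HopfAlgebra k A]

/-- The point of `G` given by a point of the coordinate ring. -/
def phi {G : Over (Spec (CommRingCat.of k))} [GrpObj G] (e : spec (k := k) A ⟶ G) [IsMonHom e] :
    Pt k A k →* (𝟙_ (Over (Spec (CommRingCat.of k))) ⟶ G) :=
  MonoidHom.mk' (fun w => AGFQuot23.ratPt w ≫ e) fun v w => by rw [AGFQuot23.ratPt_mul, MonObj.mul_comp]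

theorem phi_surjective {G : Over (Spec (CommRingCat.of k))} [GrpObj G] (e : spec (k := k) A ⟶ G) [IsMonHom e] [IsIso e]
    (g : 𝟙_ (Over (Spec (CommRingCat.of k))) ⟶ G) : ∃ w, phi e w = g := by
  obtain ⟨w, hw⟩ := CentConn12.ratPt_surjective (g ≫ CategoryTheory.inv e)
  exact ⟨w, by show AGFQuot23.ratPt w ≫ e = g; rw [hw, Category.assoc, IsIso.inv_hom_id, Category.comp_id]⟩

theorem phi_injective {G : Over (Spec (CommRingCat.of k))} [GrpObj G] (e : spec (k := k) A ⟶ G) [IsMonHom e] [IsIso e] :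
    Function.Injective (phi e) := fun _ _ h => CentConn12.ratPt_injective ((cancel_mono e).1 h)

theorem ptOf_phi {G : Over (Spec (CommRingCat.of k))} [GrpObj G] (e : spec (k := k) A ⟶ G) [IsMonHom e]
    (w : Pt k A k) :
    ptOf (phi e w) = e.left.base (⟨RingHom.ker w.ofConv, RingHom.ker_isPrime _⟩ : PrimeSpectrum A) := by
  show e.left.base ((AGFQuot23.ratPt w).left.base (IsLocalRing.closedPoint k)) = _
  refine congrArg e.left.base (PrimeSpectrum.ext ?_)
  show (IsLocalRing.maximalIdeal k).comap w.ofConv.toRingHom = RingHom.ker w.ofConv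
  rw [IsLocalRing.maximalIdeal_eq_bot]
  rfl

omit [IsAlgClosed k] in
theorem algHom_eq_of_ker {R : Type u} [CommRing R] [Algebra k R] {φ ψ : R →ₐ[k] k}
    (h : RingHom.ker φ = RingHom.ker ψ) : φ = ψ := AlgHom.ext fun a => by
  have h1 : φ (a - algebraMap k R (ψ a)) = 0 := by
    show a - algebraMap k R (ψ a) ∈ RingHom.ker φ
    rw [h, RingHom.mem_ker, map_sub, AlgHom.commutes]
    exact sub_self _
  rw [map_sub, AlgHom.commutes, sub_eq_zero] at h1
  exact h1

variable (A)

/-- Data of the cell of a cocharacter. -/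
theorem exists_cell_hopf [Algebra.FiniteType k A] [IsDomain A] (lam : A →ₐc[k] k[T;T⁻¹]) :
    IsDomain (A ⧸ limIdeal lam) ∧
      (∀ S : Subgroup (Pt k A k), (∀ w, conj k lam w = push (cst k k) w → w ∈ S) → Group.IsSolvable S →
        Group.IsSolvable (limSub k lam)) ∧
      (∀ u ∈ oneSub k ((invertHom k).comp lam), ∀ p ∈ limSub k lam,
        ∀ F : Set (PrimeSpectrum A), IsClosed F →
          (⟨RingHom.ker u.ofConv, RingHom.ker_isPrime _⟩ : PrimeSpectrum A) ∉ F →
          ∃ W : Set (PrimeSpectrum A), IsOpen W ∧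
            (⟨RingHom.ker (u * p).ofConv, RingHom.ker_isPrime _⟩ : PrimeSpectrum A) ∈ W ∧
            ∀ w : Pt k A k, (⟨RingHom.ker w.ofConv, RingHom.ker_isPrime _⟩ : PrimeSpectrum A) ∈ W →
              ∃ u' ∈ oneSub k ((invertHom k).comp lam), ∃ p' ∈ limSub k lam, w = u' * p' ∧
                (⟨RingHom.ker u'.ofConv, RingHom.ker_isPrime _⟩ : PrimeSpectrum A) ∉ F) ∧
      ∃ W : Set (PrimeSpectrum A), IsOpen W ∧
        ∀ w : Pt k A k, (⟨RingHom.ker w.ofConv, RingHom.ker_isPrime _⟩ : PrimeSpectrum A) ∈ W ↔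
          ∃ u' ∈ oneSub k ((invertHom k).comp lam), ∃ p' ∈ limSub k lam, w = u' * p' := by
  let lamNeg := (invertHom k).comp lam
  let Jp := limIdeal lam
  let Jm := oneIdeal lamNeg
  have hneg := DynLib.invertHom_comp_eq lam
  have hopen := DynLib.isOpenImmersion_cell_field (k := k) (A := A) (lam := lam) (lamNeg := lamNeg) hneg
    (Jm := Jm) (Jp := Jp) (fun R _ _ g => (DynLib.kills_limIdeal_iff lam g).trans (DynLib.limExists_iff lam g).symm)
    fun R _ _ g => (DynLib.kills_oneIdeal_iff lamNeg g).trans (DynLib.limIsOne_iff lamNeg g).symm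
  let R : Type u := (A ⧸ Jm) ⊗[k] (A ⧸ Jp)
  have hem : ∀ a ∈ Jm, Bialgebra.counitAlgHom k A a = 0 := (DynLib.kills_oneIdeal_iff lamNeg _).2
    (show (1 : Pt k A k) ∈ oneSub k lamNeg from one_mem _)
  have hep : ∀ a ∈ Jp, Bialgebra.counitAlgHom k A a = 0 := (DynLib.kills_limIdeal_iff lam _).2
    (show (1 : Pt k A k) ∈ limSub k lam from one_mem _)
  haveI : Algebra.FiniteType k (A ⧸ Jp) :=
    Algebra.FiniteType.of_surjective (Ideal.Quotient.mkₐ k Jp) Ideal.Quotient.mk_surjective
  haveI : Algebra.FiniteType k (A ⧸ Jm) :=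
    Algebra.FiniteType.of_surjective (Ideal.Quotient.mkₐ k Jm) Ideal.Quotient.mk_surjective
  haveI : Algebra.FiniteType k R :=
    Algebra.FiniteType.trans (inferInstanceAs (Algebra.FiniteType k (A ⧸ Jm)))
      (Algebra.FiniteType.baseChange (R := k) (A := A ⧸ Jp) (A ⧸ Jm))
  -- the cell is integral
  haveI : IsDomain R := by
    haveI : Nonempty ↥(Spec (CommRingCat.of R)) := by
      let e : R →ₐ[k] k := Algebra.TensorProduct.lift (Ideal.Quotient.liftₐ Jm _ hem) (Ideal.Quotient.liftₐ Jp _ hep)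
        fun _ _ => .all _ _
      exact ⟨⟨RingHom.ker e, RingHom.ker_isPrime e⟩⟩
    haveI := hopen
    haveI : IsIntegral (Spec (CommRingCat.of A)) := inferInstance
    haveI : IsIntegral (Spec (CommRingCat.of R)) :=
      isIntegral_of_isOpenImmersion (Spec.map (CommRingCat.ofHom (cellHom k Jm Jp).toRingHom))
    exact (affine_isIntegral_iff (R := CommRingCat.of _)).1 ‹_›
  have hdom : IsDomain (A ⧸ Jp) := by
    have hinj : Function.Injective (Algebra.TensorProduct.includeRight : A ⧸ Jp →ₐ[k] R) := fun x y h => by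
      have := congrArg (Algebra.TensorProduct.lift ((Algebra.ofId k (A ⧸ Jp)).comp (Ideal.Quotient.liftₐ Jm _ hem))
        (AlgHom.id k (A ⧸ Jp)) fun _ _ => .all _ _) h
      simpa using this
    exact Function.Injective.isDomain
      (Algebra.TensorProduct.includeRight : A ⧸ Jp →ₐ[k] R).toRingHom hinj
  -- the map of the cell
  let f : PrimeSpectrum R → PrimeSpectrum A := PrimeSpectrum.comap (cellHom k Jm Jp).toRingHom
  have hf : Topology.IsOpenEmbedding f := by
    haveI := hopen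
    exact (Spec.map (CommRingCat.ofHom (cellHom k Jm Jp).toRingHom)).isOpenEmbedding
  let gl : A →ₐ[k] R := Algebra.TensorProduct.includeLeft.comp (Ideal.Quotient.mkₐ k Jm)
  -- points of the cell
  have hpt : ∀ (q : PrimeSpectrum R) (w : Pt k A k), f q = ⟨RingHom.ker w.ofConv, RingHom.ker_isPrime _⟩ →
      ∃ u' ∈ oneSub k lamNeg, ∃ p' ∈ limSub k lam, w = u' * p' ∧
        PrimeSpectrum.comap gl.toRingHom q = ⟨RingHom.ker u'.ofConv, RingHom.ker_isPrime _⟩ := by
    intro q w hq
    obtain ⟨M, hM, hle⟩ := Ideal.exists_le_maximal q.asIdeal q.2.ne_top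
    have h1 : f ⟨M, hM.isPrime⟩ = f q := by
      rw [hq]
      refine PrimeSpectrum.ext (Eq.symm (Ideal.IsMaximal.eq_of_le ?_ (Ideal.IsPrime.comap _).ne_top ?_))
      · exact RingHom.ker_isMaximal_of_surjective w.ofConv fun c => ⟨algebraMap k A c, w.ofConv.commutes c⟩
      · have h2 : q.asIdeal.comap (cellHom k Jm Jp).toRingHom = RingHom.ker w.ofConv :=
          congrArg PrimeSpectrum.asIdeal hq
        exact h2.symm.le.trans (Ideal.comap_mono hle)
    obtain ⟨φ, hφ⟩ := AGFQuot23.exists_point_of_isMaximal (k := k) M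
    have hq' : q.asIdeal = RingHom.ker φ := by
      rw [hφ, ← hf.injective h1]
    let u' : Pt k A k := toConv ((φ.comp Algebra.TensorProduct.includeLeft).comp (Ideal.Quotient.mkₐ k Jm))
    let p' : Pt k A k := toConv ((φ.comp Algebra.TensorProduct.includeRight).comp (Ideal.Quotient.mkₐ k Jp))
    refine ⟨u', (DynLib.kills_oneIdeal_iff lamNeg _).1 fun a ha => ?_, p',
      (DynLib.kills_limIdeal_iff lam _).1 fun a ha => ?_, ?_, ?_⟩
    · show φ ((Algebra.TensorProduct.includeLeft : A ⧸ Jm →ₐ[k] R) (Ideal.Quotient.mk Jm a)) = 0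
      rw [Ideal.Quotient.eq_zero_iff_mem.2 ha, map_zero, map_zero]
    · show φ (Algebra.TensorProduct.includeRight (Ideal.Quotient.mk Jp a)) = 0
      rw [Ideal.Quotient.eq_zero_iff_mem.2 ha, map_zero, map_zero]
    · rw [← DynLib.cellHom_point Jm Jp φ]
      refine WithConv.ext (algHom_eq_of_ker ?_)
      have h2 : q.asIdeal.comap (cellHom k Jm Jp).toRingHom = RingHom.ker w.ofConv :=
        congrArg PrimeSpectrum.asIdeal hq
      rw [← h2, hq']
      rfl
    · refine PrimeSpectrum.ext ?_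
      show q.asIdeal.comap gl.toRingHom = _
      rw [hq']
      rfl
  have hmem : ∀ u ∈ oneSub k lamNeg, ∀ p ∈ limSub k lam, ∃ q : PrimeSpectrum R,
      f q = ⟨RingHom.ker (u * p).ofConv, RingHom.ker_isPrime _⟩ ∧
      PrimeSpectrum.comap gl.toRingHom q = ⟨RingHom.ker u.ofConv, RingHom.ker_isPrime _⟩ := by
    intro u hu p hp
    let φ : R →ₐ[k] k := Algebra.TensorProduct.lift (Ideal.Quotient.liftₐ Jm u.ofConv ((DynLib.kills_oneIdeal_iff lamNeg _).2 hu))
      (Ideal.Quotient.liftₐ Jp p.ofConv ((DynLib.kills_limIdeal_iff lam _).2 hp)) fun _ _ => .all _ _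
    have e1 : toConv ((φ.comp Algebra.TensorProduct.includeLeft).comp (Ideal.Quotient.mkₐ k Jm)) = u :=
      WithConv.ext (AlgHom.ext fun a => by
        show φ ((Ideal.Quotient.mk Jm a) ⊗ₜ[k] (1 : A ⧸ Jp)) = _
        refine (Algebra.TensorProduct.lift_tmul _ _ _ _ _).trans ?_
        rw [map_one, _root_.mul_one]
        rfl)
    have e2 : toConv ((φ.comp Algebra.TensorProduct.includeRight).comp (Ideal.Quotient.mkₐ k Jp)) = p :=
      WithConv.ext (AlgHom.ext fun a => by
        show φ ((1 : A ⧸ Jm) ⊗ₜ[k] (Ideal.Quotient.mk Jp a)) = _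
        refine (Algebra.TensorProduct.lift_tmul _ _ _ _ _).trans ?_
        rw [map_one, _root_.one_mul]
        rfl)
    refine ⟨⟨RingHom.ker φ, RingHom.ker_isPrime _⟩, PrimeSpectrum.ext ?_, PrimeSpectrum.ext ?_⟩
    · conv_rhs => rw [← e1, ← e2, ← DynLib.cellHom_point]
      rfl
    · conv_rhs => rw [← e1]
      rfl
  refine ⟨hdom, ?_, ?_, ⟨Set.range f, hf.isOpen_range, fun w => ⟨fun hw => ?_, ?_⟩⟩⟩
  · -- solvability
    intro S hS hSs
    let J : Pt k A (Polynomial k) →* Pt k A k[T;T⁻¹] := push (DynLib.jay k k)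
    have hJ : Function.Injective J := DynLib.push_injective _ DynLib.jay_injective
    let c₀ : ↥(limSub k lam) →* ↥(MonoidHom.range J) :=
      ((conj k lam).comp (limSub k lam).subtype).codRestrict _ fun x => x.2
    let h₀ : ↥(limSub k lam) →* Pt k A (Polynomial k) := (MonoidHom.ofInjective hJ).symm.toMonoidHom.comp c₀
    let L : ↥(limSub k lam) →* Pt k A k := (push (DynLib.ev0 k k)).comp h₀
    have hh₀ : ∀ x, J (h₀ x) = conj k lam x.1 := fun x => by
      have h1 := congrArg Subtype.val ((MonoidHom.ofInjective hJ).apply_symm_apply (c₀ x))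
      exact h1
    have hL : ∀ x, L x ∈ S := fun x => hS _ (DynLib.conj_limit lam x.1 (h₀ x) (hh₀ x))
    let J₁ := oneIdeal lam
    haveI : J₁.IsHopfIdeal k := DynLib.isHopfIdeal_oneIdeal lam
    haveI : Algebra.FiniteType k (A ⧸ J₁) :=
      Algebra.FiniteType.of_surjective (Ideal.Quotient.mkₐ k J₁) Ideal.Quotient.mk_surjective
    haveI : Group.IsSolvable (WithConv (A ⧸ J₁ →ₐ[k] k)) := S3267.result k (A ⧸ J₁)
      (AGFQuot23.isTrigonalizable_of_isUnipotent (S3304.result k A lam J₁ fun R _ _ g =>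
        (DynLib.kills_oneIdeal_iff lam g).trans (DynLib.limIsOne_iff lam g).symm))
    haveI : Group.IsSolvable (DynLib.Pt k (A ⧸ J₁) k) := ‹_›
    let π := Bialgebra.Quotient.mkBialgHom (R := k) J₁
    haveI : Group.IsSolvable ↥(DynLib.oneSub k lam) := by
      let g : DynLib.Pt k (A ⧸ J₁) k →* ↥(oneSub k lam) := (pull π).codRestrict _ fun x =>
        (DynLib.kills_oneIdeal_iff lam _).1 fun a ha => by
          show x.ofConv (Ideal.Quotient.mk J₁ a) = 0
          rw [Ideal.Quotient.eq_zero_iff_mem.2 ha, map_zero]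
      refine solvable_of_surjective (f := g) fun y => ?_
      refine ⟨toConv (Ideal.Quotient.liftₐ J₁ y.1.ofConv ((DynLib.kills_oneIdeal_iff lam _).2 y.2)),
        Subtype.ext (WithConv.ext (AlgHom.ext fun a => rfl))⟩
    let L' : ↥(limSub k lam) →* S := L.codRestrict _ hL
    haveI := hSs
    have hle : oneSub k lam ≤ limSub k lam := fun x hx => by
      obtain ⟨h, -, hh⟩ := hx
      exact ⟨h, hh⟩
    refine solvable_of_ker_le_range (Subgroup.inclusion hle) L' fun x hx => ?_
    have h1 : L x = 1 := congrArg Subtype.val (MonoidHom.mem_ker.1 hx)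
    exact ⟨⟨x.1, ⟨h₀ x, h1, hh₀ x⟩⟩, rfl⟩
  · intro u hu p hp F hF huF
    refine ⟨f '' ((PrimeSpectrum.comap gl.toRingHom) ⁻¹' Fᶜ),
      hf.isOpenMap _ (hF.isOpen_compl.preimage (PrimeSpectrum.continuous_comap _)), ?_, fun w hw => ?_⟩
    · obtain ⟨q, hq, hq'⟩ := hmem u hu p hp
      exact ⟨q, show _ ∈ Fᶜ by rw [hq']; exact huF, hq⟩
    · obtain ⟨q, hqF, hq⟩ := hw
      obtain ⟨u', hu', p', hp', hw', hg⟩ := hpt q w hq
      exact ⟨u', hu', p', hp', hw', fun h => hqF (by rw [hg]; exact h)⟩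
  · obtain ⟨q, hq⟩ := hw
    obtain ⟨u', hu', p', hp', hw', -⟩ := hpt q w hq
    exact ⟨u', hu', p', hp', hw'⟩
  · rintro ⟨u, hu, p, hp, rfl⟩
    obtain ⟨q, hq, -⟩ := hmem u hu p hp
    exact ⟨q, hq⟩

end Hopf

/-- The cell of a maximal torus. -/
structure Cell {G T C : Over (Spec (CommRingCat.of k))} [GrpObj G] [GrpObj T] [GrpObj C] (i : T ⟶ G) (c : C ⟶ G) where
  /-- the parabolic-like subgroup -/
  P : Over (Spec (CommRingCat.of k))
  [grp : GrpObj P]
  /-- its inclusion -/
  iP : P ⟶ G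
  [hom : IsMonHom iP]
  closed : IsClosedImmersion iP.left
  smooth : Smooth P.hom
  connected : ConnectedSpace P.left
  solvable : Group.IsSolvable (𝟙_ (Over (Spec (CommRingCat.of k))) ⟶ P)
  cent_le : ∀ x : 𝟙_ (Over (Spec (CommRingCat.of k))) ⟶ C, ∃ p, p ≫ iP = x ≫ c
  /-- the opposite unipotent group, on points -/
  U : Subgroup (𝟙_ (Over (Spec (CommRingCat.of k))) ⟶ G)
  conj_mem : ∀ x : 𝟙_ (Over (Spec (CommRingCat.of k))) ⟶ C, ∀ u ∈ U, (x ≫ c)⁻¹ * u * (x ≫ c) ∈ U
  /-- the big cell -/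
  W₀ : Set G.left
  isOpen_W₀ : IsOpen W₀
  mem_W₀ : ∀ g, ptOf g ∈ W₀ ↔ ∃ u ∈ U, ∃ p : 𝟙_ (Over (Spec (CommRingCat.of k))) ⟶ P, g = u * (p ≫ iP)
  cell : ∀ F : Set G.left, IsClosed F → ∀ u ∈ U, ptOf u ∉ F → ∀ p : 𝟙_ (Over (Spec (CommRingCat.of k))) ⟶ P,
    ∃ W : Set G.left, IsOpen W ∧ ptOf (u * (p ≫ iP)) ∈ W ∧ ∀ g, ptOf g ∈ W →
      ∃ u' ∈ U, ∃ p' : 𝟙_ (Over (Spec (CommRingCat.of k))) ⟶ P, g = u' * (p' ≫ iP) ∧ ptOf u' ∉ F
  trivial_torus : ∀ (B S : Over (Spec (CommRingCat.of k))) [GrpObj B] [GrpObj S] (iB : B ⟶ G) [IsMonHom iB]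
    [IsClosedImmersion iB.left] (t : T ⟶ B) [IsMonHom t], t ≫ iB = i → Red.IsTorus S → ∀ (π : B ⟶ S) [IsMonHom π]
    (w : 𝟙_ (Over (Spec (CommRingCat.of k))) ⟶ B), w ≫ iB ∈ U → w ≫ π = 1

theorem exists_cell {G T C : Over (Spec (CommRingCat.of k))} [GrpObj G] [IsAffine G.left] [Smooth G.hom]
    [ConnectedSpace G.left] [GrpObj T] [GrpObj C] {i : T ⟶ G} (hT : AGF.IsMaxTorus i) {c : C ⟶ G}
    (hC : Red.IsCentralizerOf i c) : Nonempty (Cell i c) := by
  haveI := hT.1
  haveI := hT.2.1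
  haveI := hC.1
  haveI := hC.2.1
  have hTt : Red.IsTorus T := hT.2.2.1
  haveI : QuasiCompact G.hom := (quasiCompact_iff_compactSpace G.hom).2 inferInstance
  haveI : IsReduced G.left := Groth.Agent.AbSchLib.isReduced_of_smooth G.hom
  haveI : IrreducibleSpace G.left := Groth.Agent.SGA3cLib.irreducibleSpace_of_connected G
  obtain ⟨A, _, _, e, he, hem⟩ := exists_spec (k := k) G
  haveI := he; haveI := hem
  haveI : IsIso e.left := inferInstanceAs (IsIso ((Over.forget _).map e))
  haveI := UnipStruct.finiteType_of_iso e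
  haveI : IsReduced (Spec (CommRingCat.of A)) := by
    haveI hoi : IsOpenImmersion e.left := inferInstanceAs (IsOpenImmersion (asIso e.left).hom)
    exact @isReduced_of_isOpenImmersion _ _ e.left hoi ‹_›
  haveI : IsIntegral (Spec (CommRingCat.of A)) := by
    haveI : IrreducibleSpace (Spec (CommRingCat.of A)) :=
      (asIso e.left).inv.homeomorph.surjective.irreducibleSpace (asIso e.left).inv.continuous
    exact isIntegral_of_irreducibleSpace_of_isReduced _
  haveI : IsDomain A := (affine_isIntegral_iff (CommRingCat.of A)).1 inferInstance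
  obtain ⟨N, _, r, ε, eT, _, _⟩ := HMTor29.MaxTorus.isFreeDiag_of_isTorus T hTt
  haveI : IsMonHom (CategoryTheory.inv e) := inferInstanceAs (IsMonHom (asIso e).inv)
  haveI : IsMonHom (eT ≫ i ≫ CategoryTheory.inv e) := inferInstance
  obtain ⟨θ, hθ⟩ := exists_specHom (k := k) (eT ≫ i ≫ CategoryTheory.inv e)
  obtain ⟨χ, hχ⟩ := exists_regular (k := k) ε θ
  let lam := (CentConn12.cochar (k := k) χ).comp θ
  let lamNeg := (invertHom k).comp lam
  -- points of the torus
  have hθpt : ∀ h : Pt k (MonoidAlgebra k N) k, phi e (pull θ h) = (AGFQuot23.ratPt h ≫ eT) ≫ i := fun h => by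
    have h1 := congrArg (fun f => AGFQuot23.ratPt h ≫ f ≫ e) hθ
    simp only [Category.assoc, IsIso.inv_hom_id, Category.comp_id] at h1
    rw [Category.assoc, ← h1, ← Category.assoc, AGFQuot23.ratPt_comp]
    rfl
  have htpt : ∀ t : 𝟙_ (Over (Spec (CommRingCat.of k))) ⟶ T, ∃ h, phi e (pull θ h) = t ≫ i := fun t => by
    obtain ⟨h, hh⟩ := CentConn12.ratPt_surjective (t ≫ CategoryTheory.inv eT)
    exact ⟨h, by rw [hθpt, hh, Category.assoc, Category.assoc, IsIso.inv_hom_id_assoc]⟩
  -- the centralizer on points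
  have hCcomm : ∀ (x : 𝟙_ (Over (Spec (CommRingCat.of k))) ⟶ C) (t : 𝟙_ (Over (Spec (CommRingCat.of k))) ⟶ T),
      (x ≫ c) * (t ≫ i) = (t ≫ i) * (x ≫ c) := fun x t => by
    simpa using (hC.2.2 _ (x ≫ c)).1 ⟨x, rfl⟩ _ (𝟙 _) t
  have hfix : ∀ (x : 𝟙_ (Over (Spec (CommRingCat.of k))) ⟶ C) (w : Pt k A k), phi e w = x ≫ c →
      conj k lam w = push (cst k k) w := by
    intro x w hw
    refine WithConv.ext (AlgHom.ext fun a => HMTor29.laurent_ext fun z => ?_)
    rw [show HMTor29.lev (k := k) z = AGFQuot23.evU z from DynLib.Lext' (by rw [HMTor29.lev_T, AGFQuot23.evU_T])]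
    refine congrArg (fun q : Pt k A k => q.ofConv a)
      (show push (AGFQuot23.evU z) (conj k lam w) = push (AGFQuot23.evU z) (push (cst k k) w) from ?_)
    rw [AGFQuot23.push_evU_conj]
    have h2 : push (AGFQuot23.evU z) (push (cst k k) w) = w := by
      rw [DynLib.push_push]
      exact WithConv.ext (AlgHom.ext fun a => by simp [DynLib.cst_apply])
    rw [h2, mul_inv_eq_iff_eq_mul]
    refine phi_injective e ?_
    obtain ⟨t, ht⟩ : ∃ t, phi e (AGFQuot23.valAt lam z) = t ≫ i :=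
      ⟨_, hθpt (toConv ((AGFQuot23.evU z).comp (CentConn12.cochar (k := k) χ : MonoidAlgebra k N →ₐ[k] k[T;T⁻¹])))⟩
    rw [map_mul, map_mul, hw, ht, hCcomm]
  let cHom : (𝟙_ (Over (Spec (CommRingCat.of k))) ⟶ C) →* (𝟙_ (Over (Spec (CommRingCat.of k))) ⟶ G) :=
    MonoidHom.mk' (fun x => x ≫ c) fun x y => MonObj.mul_comp x y c
  let S : Subgroup (Pt k A k) := cHom.range.comap (phi e)
  haveI : Smooth T.hom := AlgGrpLib.AxesTorus.smooth_of_isTorus hTt
  haveI : IsReduced T.left := AbSchLib.isReduced_of_smooth T.hom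
  have hS : ∀ w, conj k lam w = push (cst k k) w → w ∈ S := fun w hw => by
    have hcm : ∀ t : 𝟙_ (Over (Spec (CommRingCat.of k))) ⟶ T, phi e w * (t ≫ i) = (t ≫ i) * phi e w := fun t => by
      obtain ⟨h, hh⟩ := htpt t
      rw [← hh, ← map_mul, ← map_mul, (hχ k w hw h).eq]
    have hTi : (toUnit T ≫ phi e w) * i = i * (toUnit T ≫ phi e w) :=
      AGFQuot23.hom_ext_of_points _ _ fun t => by
        simp only [MonObj.comp_mul, ← Category.assoc, toUnit_unique (t ≫ toUnit T) (𝟙 _), Category.id_comp, hcm t]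
    obtain ⟨z, hz⟩ := (hC.2.2 _ (phi e w)).2 fun X x h => by
      have h1 := congrArg (fun f => h ≫ f) hTi
      simp only [MonObj.comp_mul, ← Category.assoc, toUnit_unique (h ≫ toUnit T) x] at h1
      exact h1
    exact ⟨z, hz⟩
  haveI hCs : Group.IsSolvable (𝟙_ (Over (Spec (CommRingCat.of k))) ⟶ C) := by
    obtain ⟨n, hn⟩ := AGFQuot23.isSolvableGrp_centralizer_maxTorus hT hC
    exact ⟨⟨n, hn _⟩⟩
  have hSs : Group.IsSolvable S := by
    let g : S →* cHom.range := ((phi e).comp S.subtype).codRestrict _ fun x => x.2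
    haveI : Group.IsSolvable cHom.range := solvable_of_surjective (f := cHom.rangeRestrict) cHom.rangeRestrict_surjective
    exact solvable_of_solvable_injective (f := g) fun x y h =>
      Subtype.ext (phi_injective e (congrArg Subtype.val h))
  obtain ⟨hdom, hsol', hcell, W, hWo, hW⟩ := exists_cell_hopf A lam
  have hsol := hsol' S hS hSs
  let Jp := limIdeal lam
  haveI : Jp.IsHopfIdeal k := DynLib.isHopfIdeal_limIdeal lam
  haveI := hdom
  haveI : Algebra.FiniteType k (A ⧸ Jp) :=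
    Algebra.FiniteType.of_surjective (Ideal.Quotient.mkₐ k Jp) Ideal.Quotient.mk_surjective
  let π := Bialgebra.Quotient.mkBialgHom (R := k) Jp
  have hPpt : ∀ (w : Pt k (A ⧸ Jp) k), AGFQuot23.ratPt w ≫ specHom π ≫ e = phi e (pull π w) := fun w => by
    rw [← Category.assoc, AGFQuot23.ratPt_comp]
    rfl
  have hPmem : ∀ (w : Pt k (A ⧸ Jp) k), pull π w ∈ limSub k lam := fun w =>
    (DynLib.kills_limIdeal_iff lam _).1 fun a ha => by
      show w.ofConv (Ideal.Quotient.mk Jp a) = 0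
      rw [Ideal.Quotient.eq_zero_iff_mem.2 ha, map_zero]
  have hPlift : ∀ p ∈ limSub k lam, ∃ w : Pt k (A ⧸ Jp) k, pull π w = p := fun p hp =>
    ⟨toConv (Ideal.Quotient.liftₐ Jp p.ofConv ((DynLib.kills_limIdeal_iff lam _).2 hp)),
      WithConv.ext (AlgHom.ext fun a => rfl)⟩
  have hhom : Topology.IsInducing e.left.base ∧ Function.Surjective e.left.base :=
    ⟨e.left.homeomorph.isInducing, e.left.homeomorph.surjective⟩
  have hjcl : IsClosedImmersion (specHom π).left := by
    rw [HopfQuot.specHom_left]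
    exact IsClosedImmersion.spec_of_surjective _ Ideal.Quotient.mk_surjective
  refine ⟨{
    P := spec (k := k) (A ⧸ Jp)
    iP := specHom π ≫ e
    closed := by rw [Over.comp_left]; infer_instance
    smooth := ?_
    connected := ?_
    solvable := ?_
    cent_le := ?_
    U := (oneSub k lamNeg).map (phi e)
    conj_mem := ?_
    W₀ := e.left.base '' W
    isOpen_W₀ := e.left.homeomorph.isOpenMap W hWo
    mem_W₀ := ?_
    cell := ?_
    trivial_torus := ?_ }⟩
  · haveI : IsReduced (spec (k := k) (A ⧸ Jp)).left := inferInstanceAs (IsReduced (Spec (CommRingCat.of (A ⧸ Jp))))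
    haveI : LocallyOfFiniteType (spec (k := k) (A ⧸ Jp)).hom := (HasRingHomProperty.Spec_iff (P := @LocallyOfFiniteType)
      (φ := CommRingCat.ofHom (algebraMap k (A ⧸ Jp)))).2 (RingHom.finiteType_algebraMap.2 inferInstance)
    exact UnipStruct.smooth_of_isReduced _
  · exact inferInstanceAs (ConnectedSpace (PrimeSpectrum (A ⧸ Jp)))
  · haveI := hsol
    let g : Pt k (A ⧸ Jp) k →* ↥(limSub k lam) := (pull π).codRestrict _ hPmem
    haveI : Group.IsSolvable (Pt k (A ⧸ Jp) k) := solvable_of_solvable_injective (f := g) fun x y h =>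
      DynLib.pull_injective π Ideal.Quotient.mk_surjective (congrArg Subtype.val h)
    exact solvable_of_surjective (f := MonoidHom.mk' (fun w : Pt k (A ⧸ Jp) k => AGFQuot23.ratPt w)
      fun v w => AGFQuot23.ratPt_mul v w) fun y => CentConn12.ratPt_surjective y
  · intro x
    obtain ⟨w, hw⟩ := phi_surjective e (x ≫ c)
    obtain ⟨v, hv⟩ := hPlift w (AGFQuot23.mem_limSub_of_fixed (hfix x w hw))
    exact ⟨AGFQuot23.ratPt v, by rw [hPpt, hv, hw]⟩
  · rintro x _ ⟨u, hu, rfl⟩
    obtain ⟨w, hw⟩ := phi_surjective e (x ≫ c)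
    refine ⟨w⁻¹ * u * w, AGFQuot23.conj_oneSub hu (AGFQuot23.conj_invert_eq_cst w (hfix x w hw)), ?_⟩
    rw [map_mul, map_mul, map_inv, hw]
  · intro g
    obtain ⟨w, rfl⟩ := phi_surjective e g
    rw [ptOf_phi]
    refine Iff.trans e.left.homeomorph.injective.mem_set_image ?_
    refine Iff.trans (hW w) ?_
    constructor
    · rintro ⟨u, hu, p, hp, rfl⟩
      obtain ⟨v, hv⟩ := hPlift p hp
      exact ⟨_, ⟨u, hu, rfl⟩, AGFQuot23.ratPt v, by rw [hPpt, hv, map_mul]⟩
    · rintro ⟨_, ⟨u, hu, rfl⟩, p, hp⟩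
      obtain ⟨v, rfl⟩ := CentConn12.ratPt_surjective p
      rw [hPpt, ← map_mul] at hp
      exact ⟨u, hu, _, hPmem v, phi_injective e hp⟩
  · rintro F hF _ ⟨u, hu, rfl⟩ huF p
    obtain ⟨v, rfl⟩ := CentConn12.ratPt_surjective p
    obtain ⟨W', hW'o, hW', hW''⟩ := hcell u hu (pull π v) (hPmem v) (e.left.base ⁻¹' F)
      (hF.preimage e.left.continuous) (by rw [ptOf_phi] at huF; exact huF)
    refine ⟨e.left.base '' W', e.left.homeomorph.isOpenMap W' hW'o, ?_, fun g hg => ?_⟩
    · rw [hPpt, ← map_mul, ptOf_phi]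
      exact ⟨_, hW', rfl⟩
    · obtain ⟨w, rfl⟩ := phi_surjective e g
      rw [ptOf_phi] at hg
      obtain ⟨u', hu', p', hp', rfl, hF'⟩ := hW'' w ((e.left.homeomorph.injective.mem_set_image).1 hg)
      obtain ⟨v', hv'⟩ := hPlift p' hp'
      exact ⟨_, ⟨u', hu', rfl⟩, AGFQuot23.ratPt v', by rw [hPpt, hv', map_mul], by rw [ptOf_phi]; exact hF'⟩
  · intro B S _ _ iB _ _ t _ htB hSt π' _ w hw
    haveI : IsAffine B.left := isAffine_of_isAffineHom iB.left
    obtain ⟨AB, _, _, eB, heB, hemB⟩ := exists_spec (k := k) B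
    haveI := heB; haveI := hemB
    haveI : IsMonHom (CategoryTheory.inv eB) := inferInstanceAs (IsMonHom (asIso eB).inv)
    haveI : IsMonHom (eB ≫ iB ≫ CategoryTheory.inv e) := inferInstance
    obtain ⟨j, hj⟩ := exists_specHom (k := k) (eB ≫ iB ≫ CategoryTheory.inv e)
    haveI : IsMonHom (eT ≫ t ≫ CategoryTheory.inv eB) := inferInstance
    obtain ⟨θB, hθB⟩ := exists_specHom (k := k) (eT ≫ t ≫ CategoryTheory.inv eB)
    have hθeq : θB.comp j = θ := by
      have h1 : specHom (θB.comp j) = specHom θ := by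
        have h2 : specHom (θB.comp j) = specHom θB ≫ specHom j := Over.OverMorphism.ext (by
          show Spec.map (CommRingCat.ofHom (θB.comp j : A →+* MonoidAlgebra k N)) =
            Spec.map (CommRingCat.ofHom (θB : AB →+* MonoidAlgebra k N)) ≫ Spec.map (CommRingCat.ofHom (j : A →+* AB))
          exact (Spec.map_comp _ _).symm ▸ rfl)
        rw [h2, hθB, hj, hθ, ← htB]
        simp
      refine DFunLike.ext _ _ fun a => ?_
      have h3 := Spec.map_injective (congrArg CommaMorphism.left h1 :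
        Spec.map (CommRingCat.ofHom (θB.comp j : A →+* MonoidAlgebra k N)) = Spec.map (CommRingCat.ofHom (θ : A →+* MonoidAlgebra k N)))
      exact congrArg (fun f => f.hom a) h3
    have hjs : Function.Surjective j := by
      haveI : IsClosedImmersion (Spec.map (CommRingCat.ofHom (j : A →+* AB))) := by
        rw [← HopfQuot.specHom_left, hj]
        haveI : IsIso eB.left := inferInstanceAs (IsIso ((Over.forget _).map eB))
        haveI : IsIso (CategoryTheory.inv e).left := inferInstanceAs (IsIso ((Over.forget _).map (CategoryTheory.inv e)))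
        haveI : IsClosedImmersion (iB.left ≫ (CategoryTheory.inv e).left) :=
          MorphismProperty.comp_mem _ _ _ ‹IsClosedImmersion iB.left› inferInstance
        exact MorphismProperty.comp_mem _ eB.left (iB.left ≫ (CategoryTheory.inv e).left) inferInstance this
      exact AGFQuot23.surjective_of_isClosedImmersion_spec (CommRingCat.ofHom (j : A →+* AB))
    obtain ⟨M, _, r', εM, eS, _, _⟩ := HMTor29.MaxTorus.isFreeDiag_of_isTorus S hSt
    haveI : IsMonHom (CategoryTheory.inv eS) := inferInstanceAs (IsMonHom (asIso eS).inv)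
    haveI : IsMonHom (eB ≫ π' ≫ CategoryTheory.inv eS) := inferInstance
    obtain ⟨ψ, hψ⟩ := exists_specHom (k := k) (eB ≫ π' ≫ CategoryTheory.inv eS)
    obtain ⟨wB, hwB⟩ := CentConn12.ratPt_surjective (w ≫ CategoryTheory.inv eB)
    obtain ⟨u, hu, hue⟩ := hw
    have h1 : pull j wB = u := phi_injective e (by
      rw [hue]
      show AGFQuot23.ratPt (pull j wB) ≫ e = _
      have h2 := congrArg (fun f => AGFQuot23.ratPt wB ≫ f ≫ e) hj
      rw [show AGFQuot23.ratPt (pull j wB) = AGFQuot23.ratPt wB ≫ specHom j from (AGFQuot23.ratPt_comp j wB).symm,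
        Category.assoc, h2, hwB]
      simp)
    let lamB : AB →ₐc[k] k[T;T⁻¹] := (invertHom k).comp ((CentConn12.cochar (k := k) χ).comp θB)
    have hlam : lamB.comp j = lamNeg := by
      show _ = (invertHom k).comp ((CentConn12.cochar (k := k) χ).comp θ)
      rw [← hθeq]
      rfl
    have h3 : wB ∈ oneSub k lamB := (DynLib.pull_mem_oneSub_iff j hjs lamB wB).1 (by rw [hlam, h1]; exact hu)
    have h4 : pull ψ wB = 1 := AGFQuot23.eq_one_of_fixed (DynLib.pull_mem_oneSub ψ lamB h3) (by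
      rw [DynLib.conj_apply, CentConn12.pt_comm (pre _ _) (push _ _), mul_inv_cancel_right])
    have h5 := congrArg (fun f => AGFQuot23.ratPt wB ≫ f ≫ eS) hψ
    rw [← Category.assoc, AGFQuot23.ratPt_comp, show toConv (wB.ofConv.comp (ψ : MonoidAlgebra k M →ₐ[k] AB)) = 1 from h4,
      AGFQuot23.ratPt_one, MonObj.one_comp, hwB] at h5
    simp only [Category.assoc, IsIso.inv_hom_id, Category.comp_id, IsIso.inv_hom_id_assoc] at h5
    exact h5.symm

end Groth.Agent.Luna12
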