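import Groth.Agent.Luna12.Cell
import Groth.Agent.HMTor29.MaxTorus
import Groth.Agent.AGFQuot23.FlagConj
import Groth.Agent.AlgGrpLib.ClosureSubgroup
import Groth.Agent.AlgGrpLib.HomogQuotProj
import Groth.Agent.AlgGrpLib.SemiabSum

/-!
# Unipotent subgroups of the centralizer of a maximal torus lie in all conjugates of a Borel subgroup
-/

set_option autoImplicit false
set_option backward.isDefEq.respectTransparency.types false
set_option maxHeartbeats 2000000
set_option synthInstance.maxHeartbeats 400000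
set_option linter.style.haveILetI false

universe u

open CategoryTheory CategoryTheory.Limits MonoidalCategory CartesianMonoidalCategory MonObj GrpObj AlgebraicGeometry
open Groth.Agent.AlgGrpLib (ptOf)
open Groth.Agent.AGFQuot23 (cj trans' comp_trans')

noncomputable section

namespace Groth.Agent.Luna12

variable {k : Type u} [Field k] [IsAlgClosed k]

omit [IsAlgClosed k] in
/-- Conjugation of a rational point. -/
theorem comp_cj {G : Over (Spec (CommRingCat.of k))} [GrpObj G]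
    (f g : 𝟙_ (Over (Spec (CommRingCat.of k))) ⟶ G) : f ≫ cj g = g⁻¹ * f * g := by
  have h : AGFQuot23.cst (𝟙_ (Over (Spec (CommRingCat.of k)))) g = g := by
    rw [AGFQuot23.cst, toUnit_unique (toUnit _) (𝟙 _), Category.id_comp]
  rw [AGFQuot23.comp_cj, h]

/-- Elements of a connected solvable group killed by a projection to a maximal torus. -/
theorem exists_kernel {B S : Over (Spec (CommRingCat.of k))} [GrpObj B] [GrpObj S] [IsAffine B.left] [Smooth B.hom]
    [ConnectedSpace B.left] (s : S ⟶ B) (π : B ⟶ S) [IsMonHom s] [IsMonHom π] (hsπ : s ≫ π = 𝟙 S)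
    (hS : Red.IsTorus S)
    (huniv : ∀ (P : Over (Spec (CommRingCat.of k))) [GrpObj P], Red.IsTorus P → ∀ (h : P ⟶ B) [IsMonHom h],
        ∃ v : 𝟙_ (Over (Spec (CommRingCat.of k))) ⟶ B, h = (toUnit P ≫ v) * (h ≫ π ≫ s) * (toUnit P ≫ v)⁻¹) :
    ∃ (H : Over (Spec (CommRingCat.of k))) (_ : GrpObj H) (iH : H ⟶ B),
      IsMonHom iH ∧ IsClosedImmersion iH.left ∧ IsAffine H.left ∧ Smooth H.hom ∧ ConnectedSpace H.left ∧
      Red.HasNoSubtorus k H ∧ (∀ x : 𝟙_ (Over (Spec (CommRingCat.of k))) ⟶ B, x ≫ π = 1 → ∃ h, h ≫ iH = x) := by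
  haveI : QuasiCompact B.hom := (quasiCompact_iff_compactSpace B.hom).2 inferInstance
  haveI : Smooth S.hom := AlgGrpLib.AxesTorus.smooth_of_isTorus hS
  haveI : IsSeparated S.hom := SGA3xLib.isSeparated_of_grpObj S
  let K : Subgroup (𝟙_ (Over (Spec (CommRingCat.of k))) ⟶ B) :=
    (MonoidHom.mk' (fun x : 𝟙_ (Over (Spec (CommRingCat.of k))) ⟶ B => x ≫ π) fun x y => MonObj.mul_comp x y π).ker
  obtain ⟨H, _, iH, hiH, hcl, hgr, hrange, hlift⟩ := AlgGrpLib.exists_closure_subgroup B K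
  haveI := hiH; haveI := hcl; haveI := hgr
  haveI : IsAffine H.left := isAffine_of_isAffineHom iH.left
  haveI : LocallyOfFiniteType H.hom := by rw [← Over.w iH]; infer_instance
  haveI : Smooth H.hom := AbVarLib.smooth_of_geometricallyReduced H
  haveI : Mono iH := Over.mono_of_mono_left iH
  -- the retraction
  let d : B ⟶ B := 𝟙 B * (π ≫ s)⁻¹
  have hdpt : ∀ x : 𝟙_ (Over (Spec (CommRingCat.of k))) ⟶ B, x ≫ d = x * (x ≫ π ≫ s)⁻¹ := fun x => by
    simp only [d, MonObj.comp_mul, GrpObj.comp_inv, Category.comp_id]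
  have hd1 : ∀ x, x ≫ d ∈ K := fun x => by
    show (x ≫ d) ≫ π = 1
    rw [hdpt, MonObj.mul_comp, GrpObj.inv_comp]
    simp only [Category.assoc, hsπ, Category.comp_id, mul_inv_cancel]
  have hd2 : ∀ x ∈ K, x ≫ d = x := fun x hx => by
    have h1 : x ≫ π = 1 := hx
    rw [hdpt, ← Category.assoc, h1, MonObj.one_comp, inv_one, _root_.mul_one]
  haveI : IsReduced B.left := AbSchLib.isReduced_of_smooth B.hom
  have hclos : closure (ptOf '' (K : Set _)) = closure (Set.range d.left.base) := by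
    refine subset_antisymm (closure_mono ?_) (closure_minimal ?_ isClosed_closure)
    · rintro _ ⟨x, hx, rfl⟩
      exact ⟨ptOf x, congrArg ptOf (hd2 x hx)⟩
    · rintro _ ⟨b, rfl⟩
      exact AGFQuot23.subset_of_forall_point (Z := B) (T := d.left.base ⁻¹' closure (ptOf '' (K : Set (𝟙_ (Over (Spec (CommRingCat.of k))) ⟶ B))))
        isClosed_univ.isLocallyClosed (isClosed_closure.preimage d.left.continuous)
        (fun x _ => show ptOf (x ≫ d) ∈ closure (ptOf '' (K : Set _)) from subset_closure ⟨x ≫ d, hd1 x, rfl⟩)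
        (Set.mem_univ b)
  haveI : ConnectedSpace H.left := by
    rw [connectedSpace_iff_univ]
    haveI : ConnectedSpace B.left := ‹_›
    have hc : _root_.IsConnected (closure (Set.range d.left.base)) := (isConnected_range d.left.continuous).closure
    rw [← hclos, ← hrange] at hc
    refine ⟨?_, ?_⟩
    · obtain ⟨_, ⟨h, rfl⟩⟩ := hc.1
      exact ⟨h, trivial⟩
    · rw [← iH.left.isClosedEmbedding.isInducing.isPreconnected_image, Set.image_univ]
      exact hc.2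
  have hker : ∀ x : 𝟙_ (Over (Spec (CommRingCat.of k))) ⟶ H, (x ≫ iH) ≫ π = 1 := fun x => by
    refine AGFQuot23.ratPoint_ext _ _ ?_
    have h1 : ptOf (x ≫ iH) ∈ closure (ptOf '' (K : Set _)) := hrange.le ⟨ptOf x, rfl⟩
    have h2 : closure (ptOf '' (K : Set _)) ⊆ π.left.base ⁻¹' {ptOf (1 : 𝟙_ (Over (Spec (CommRingCat.of k))) ⟶ S)} := by
      refine closure_minimal ?_ ((AGFQuot23.isClosed_ptOf _).preimage π.left.continuous)
      rintro _ ⟨y, hy, rfl⟩
      exact congrArg ptOf (show y ≫ π = 1 from hy)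
    exact h2 h1
  refine ⟨H, inferInstance, iH, hiH, hcl, inferInstance, inferInstance, inferInstance, ?_, fun x hx => hlift x hx⟩
  intro P _ j _ _ hP
  haveI : Smooth P.hom := AlgGrpLib.AxesTorus.smooth_of_isTorus hP
  haveI : IsReduced P.left := AbSchLib.isReduced_of_smooth P.hom
  haveI : IsMonHom (j ≫ iH) := inferInstance
  obtain ⟨v, hv⟩ := huniv P hP (j ≫ iH)
  have h1 : (j ≫ iH) ≫ π = 1 := AGFQuot23.hom_ext_of_points _ _ fun x => by
    rw [MonObj.comp_one, ← Category.assoc, ← Category.assoc]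
    exact hker (x ≫ j)
  refine AlgGrpLib.TorusUnip.isIso_hom_of_mono_one j ((cancel_mono iH).1 ?_)
  rw [MonObj.one_comp, hv, ← Category.assoc (j ≫ iH), h1, MonObj.one_comp, _root_.mul_one, mul_inv_cancel]

section Action

variable {G V H : Over (Spec (CommRingCat.of k))} [GrpObj G] [GrpObj V] [GrpObj H] (v : V ⟶ G) (h : H ⟶ G)
  [IsMonHom v] [IsMonHom h]

/-- Two-sided multiplication. -/
def twoSided : AlgGrp.Action (V ⊗ H) G where
  act := (fst _ _ ≫ fst V H ≫ v) * snd _ _ * (fst _ _ ≫ snd V H ≫ h)⁻¹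
  one_act := by
    simp only [MonObj.comp_mul, GrpObj.comp_inv, ← Category.assoc, whiskerRight_fst, whiskerRight_snd]
    simp only [Category.assoc]
    rw [IsMonHom.one_hom_assoc (f := fst V H), IsMonHom.one_hom (f := v), IsMonHom.one_hom_assoc (f := snd V H),
      IsMonHom.one_hom (f := h)]
    rw [show fst (𝟙_ _) G ≫ η[G] = 1 from by rw [Hom.one_def, toUnit_unique (toUnit _) (fst (𝟙_ _) G)],
      inv_one, _root_.mul_one, _root_.one_mul, leftUnitor_hom]
  mul_act := by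
    have hμ : ∀ {A : Over (Spec (CommRingCat.of k))} (f : A ⟶ G),
        (f ⊗ₘ f) ≫ μ[G] = (fst A A ≫ f) * (snd A A ≫ f) := fun f => by
      rw [Hom.mul_def]
      congr 1
    simp only [MonObj.comp_mul, GrpObj.comp_inv, ← Category.assoc, whiskerRight_fst, whiskerRight_snd, whiskerLeft_fst,
      whiskerLeft_snd]
    simp only [Category.assoc]
    rw [IsMonHom.mul_hom_assoc (f := fst V H), IsMonHom.mul_hom (f := v), IsMonHom.mul_hom_assoc (f := snd V H),
      IsMonHom.mul_hom (f := h)]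
    simp only [hμ, MonObj.comp_mul, GrpObj.comp_inv, associator_hom_fst_assoc, associator_hom_snd_fst_assoc,
      associator_hom_snd_snd, tensorHom_fst_assoc, tensorHom_snd_assoc, tensorHom_fst, tensorHom_snd,
      _root_.mul_inv_rev, _root_.mul_assoc, Category.assoc]

omit [IsAlgClosed k] in
theorem comp_twoSided (x : 𝟙_ (Over (Spec (CommRingCat.of k))) ⟶ G)
    (l : 𝟙_ (Over (Spec (CommRingCat.of k))) ⟶ V ⊗ H) :
    l ≫ (twoSided v h).orbitMap x = ((l ≫ fst V H) ≫ v) * x * ((l ≫ snd V H) ≫ h)⁻¹ := by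
  rw [AGFQuot23.point_comp_orbitMap]
  show lift l x ≫ (_ * _ * _) = _
  simp only [MonObj.comp_mul, GrpObj.comp_inv, lift_fst_assoc, lift_snd, Category.assoc]

end Action

/-- Groups without subtori in the centralizer of a maximal torus lie in all conjugates of some Borel subgroup. -/
theorem exists_borel_conj_mem {G T C : Over (Spec (CommRingCat.of k))} [GrpObj G] [IsAffine G.left] [Smooth G.hom]
    [ConnectedSpace G.left] [GrpObj T] [GrpObj C] {i : T ⟶ G} (hT : AGF.IsMaxTorus i) {c : C ⟶ G}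
    (hC : Red.IsCentralizerOf i c) :
    ∃ (B : Over (Spec (CommRingCat.of k))) (_ : GrpObj B) (iB : B ⟶ G), Red.IsBorelOver k iB ∧
      ∀ (V : Over (Spec (CommRingCat.of k))) [GrpObj V] [IsAffine V.left] [Smooth V.hom] [ConnectedSpace V.left]
        (iV : V ⟶ G) [IsMonHom iV], Red.HasNoSubtorus k V →
        (∀ x : 𝟙_ (Over (Spec (CommRingCat.of k))) ⟶ V, ∃ y, y ≫ c = x ≫ iV) →
        ∀ (x : 𝟙_ (Over (Spec (CommRingCat.of k))) ⟶ V) (g : 𝟙_ (Over (Spec (CommRingCat.of k))) ⟶ G),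
          ∃ b, b ≫ iB = g⁻¹ * (x ≫ iV) * g := by
  haveI := hT.1
  haveI := hT.2.1
  haveI := hC.1
  haveI := hC.2.1
  have hTt : Red.IsTorus T := hT.2.2.1
  haveI : QuasiCompact G.hom := (quasiCompact_iff_compactSpace G.hom).2 inferInstance
  obtain ⟨cl⟩ := exists_cell hT hC
  letI := cl.grp; haveI := cl.hom; haveI := cl.closed; haveI := cl.smooth; haveI := cl.connected
  haveI := cl.solvable
  haveI : IsAffine cl.P.left := isAffine_of_isAffineHom cl.iP.left
  -- a Borel subgroup containing the cell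
  obtain ⟨B, _, iB₀, hB₀⟩ := AGFQuot23.exists_isBorelOver k G
  haveI := hB₀.1; haveI := hB₀.2.1; haveI := hB₀.2.2.1; haveI := hB₀.2.2.2.1
  haveI : Mono iB₀ := Over.mono_of_mono_left iB₀
  haveI : QuasiCompact B.hom := by
    haveI : IsAffine B.left := isAffine_of_isAffineHom iB₀.left
    exact (quasiCompact_iff_compactSpace B.hom).2 inferInstance
  obtain ⟨X₀, a₀, o₀, -, hX₀1, -, hX₀2, hX₀3, hX₀4⟩ := AlgGrpLib.HomogQuotProj.exists_quotient_projMono G B iB₀
  obtain ⟨g₀, h₀, hh₀⟩ := HMTor29.MaxTorus.exists_factor cl.iP ⟨hX₀1, hX₀2, hX₀3, hX₀4⟩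
    (AGFQuot23.isProper_of_isBorelOver hB₀ ⟨hX₀1, hX₀2, hX₀3, hX₀4⟩)
  let iB : B ⟶ G := iB₀ ≫ cj g₀⁻¹
  have hB : Red.IsBorelOver k iB := AGFQuot23.isBorelOver_comp_cj hB₀ _
  have hPB : h₀ ≫ iB = cl.iP := by
    rw [← Category.assoc, hh₀, Category.assoc, AGFQuot23.cj_comp, mul_inv_cancel, AGFQuot23.cj_one, Category.comp_id]
  refine ⟨B, inferInstance, iB, hB, ?_⟩
  haveI := hB.1; haveI := hB.2.1
  haveI : Mono iB := Over.mono_of_mono_left iB
  haveI : IsAffine B.left := isAffine_of_isAffineHom iB.left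
  obtain ⟨X, a, o, -, hX1, hX2, hfl, hsur, hpb⟩ := AlgGrpLib.HomogQuotProj.exists_quotient_projMono G B iB
  haveI := hX1; haveI := hfl; haveI := hsur
  haveI : IsProper X.hom := AGFQuot23.isProper_of_isBorelOver hB ⟨hX1, hfl, hsur, hpb⟩
  let pr : (𝟙_ (Over (Spec (CommRingCat.of k))) ⟶ G) → (𝟙_ (Over (Spec (CommRingCat.of k))) ⟶ X) :=
    fun g => g ≫ a.orbitMap o
  have hpr_mul : ∀ g g', pr (g * g') = lift g (pr g') ≫ a.act := fun g g' =>
    AGFQuot23.mul_comp_orbitMap a o g g'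
  have hpr_B : ∀ g (b : 𝟙_ (Over (Spec (CommRingCat.of k))) ⟶ B), pr (g * (b ≫ iB)) = pr g := fun g b => by
    have h1 := congrArg (fun f => lift g b ≫ f) hpb.w
    rw [← Category.assoc, ← Category.assoc, RedQuotLib.act_eq, lift_fst, lift_snd] at h1
    exact h1.symm
  have hpr_eq : ∀ g g', pr g = pr g' → ∃ b : 𝟙_ (Over (Spec (CommRingCat.of k))) ⟶ B, g' = g * (b ≫ iB) := by
    intro g g' h
    obtain ⟨t, ht₁, ht₂⟩ := hpb.exists_lift g g' h
    rw [RedQuotLib.act_eq, ht₁] at ht₂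
    exact ⟨t ≫ snd G B, ht₂.symm⟩
  have hopen : IsOpenMap (a.orbitMap o).left.base := by
    haveI : IsLocallyNoetherian X.left := LocallyOfFiniteType.isLocallyNoetherian X.hom
    haveI : LocallyOfFiniteType ((a.orbitMap o).left ≫ X.hom) := by rw [Over.w]; infer_instance
    haveI : LocallyOfFiniteType (a.orbitMap o).left := locallyOfFiniteType_of_comp _ X.hom
    haveI : LocallyOfFinitePresentation (a.orbitMap o).left := inferInstance
    exact (a.orbitMap o).left.isOpenMap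
  -- the complement of the torus in the Borel subgroup
  haveI := hB.2.2.1; haveI := hB.2.2.2.1
  obtain ⟨S, _, s, π, hS, hs, hπ, hsπ, huniv⟩ := HMTor29.MaxTorus.exists_complement (H := B) hB.2.2.2.2.1
  haveI := hs; haveI := hπ
  obtain ⟨H, _, iH, hiH, hHcl, hHa, hHs, hHc, hHt, hHlift⟩ := exists_kernel s π hsπ hS huniv
  haveI := hiH; haveI := hHcl; haveI := hHa; haveI := hHs; haveI := hHc
  -- the torus and its centralizer
  haveI : Smooth T.hom := AlgGrpLib.AxesTorus.smooth_of_isTorus hTt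
  haveI : IsReduced T.left := AbSchLib.isReduced_of_smooth T.hom
  obtain ⟨hCsm, hCcl⟩ := CentConn12.smooth_closed hTt i hC
  haveI := hCsm; haveI := hCcl
  haveI : IsAffine C.left := isAffine_of_isAffineHom c.left
  haveI : ConnectedSpace C.left := CentConn12.connected_affine hTt i hC
  haveI : Group.IsSolvable (𝟙_ (Over (Spec (CommRingCat.of k))) ⟶ C) := by
    obtain ⟨n, hn⟩ := AGFQuot23.isSolvableGrp_centralizer_maxTorus hT hC
    exact ⟨⟨n, hn _⟩⟩
  have hCB : ∀ x : 𝟙_ (Over (Spec (CommRingCat.of k))) ⟶ C, ∃ b, b ≫ iB = x ≫ c := fun x => by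
    obtain ⟨p, hp⟩ := cl.cent_le x
    exact ⟨p ≫ h₀, by rw [Category.assoc, hPB, hp]⟩
  obtain ⟨tC, htC⟩ := (hC.2.2 T i).2 fun X' x y => by
    rw [← MonObj.mul_comp, ← MonObj.mul_comp, SGA3cLib.torus_mul_comm hTt]
  have hCmem : ∀ g : 𝟙_ (Over (Spec (CommRingCat.of k))) ⟶ G,
      (∀ t : 𝟙_ (Over (Spec (CommRingCat.of k))) ⟶ T, g * (t ≫ i) = (t ≫ i) * g) → ∃ x, x ≫ c = g := fun g hg => by
    have hTi : (toUnit T ≫ g) * i = i * (toUnit T ≫ g) := AGFQuot23.hom_ext_of_points _ _ fun t => by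
      simp only [MonObj.comp_mul, ← Category.assoc, toUnit_unique (t ≫ toUnit T) (𝟙 _), Category.id_comp, hg t]
    refine (hC.2.2 _ g).2 fun X x h => ?_
    have h1 := congrArg (fun f => h ≫ f) hTi
    simp only [MonObj.comp_mul, ← Category.assoc, toUnit_unique (h ≫ toUnit T) x] at h1
    exact h1
  have hCcomm : ∀ (x : 𝟙_ (Over (Spec (CommRingCat.of k))) ⟶ C) (t : 𝟙_ (Over (Spec (CommRingCat.of k))) ⟶ T),
      (x ≫ c) * (t ≫ i) = (t ≫ i) * (x ≫ c) := fun x t => by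
    simpa using (hC.2.2 _ (x ≫ c)).1 ⟨x, rfl⟩ _ (𝟙 _) t
  obtain ⟨t, ht⟩ : ∃ t : T ⟶ B, t ≫ iB = i := AGFQuot23.exists_lift_of_points' i iB fun b => by
    obtain ⟨x, hx⟩ := hCB (b ≫ tC)
    exact ⟨ptOf x, show ptOf (x ≫ iB) = _ by rw [hx, Category.assoc, htC]⟩
  haveI : IsMonHom (t ≫ iB) := by rw [ht]; infer_instance
  haveI := AGFQuot23.isMonHom_of_comp_mono' t iB
  -- stability of the big cell
  let O₀ : Set X.left := (a.orbitMap o).left.base '' cl.W₀
  have hO₀ : IsOpen O₀ := hopen _ cl.isOpen_W₀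
  have hO₀pt : ∀ z, ptOf z ∈ O₀ → ∃ u ∈ cl.U, z = pr u := by
    rintro z ⟨w, hw, hwz⟩
    obtain ⟨g, hgW, hg⟩ := AGFQuot23.exists_point_eq (Z := G)
      (S := cl.W₀ ∩ (a.orbitMap o).left.base ⁻¹' {ptOf z})
      (cl.isOpen_W₀.isLocallyClosed.inter ((AGFQuot23.isClosed_ptOf z).preimage
        (a.orbitMap o).left.continuous).isLocallyClosed) ⟨w, hw, hwz⟩
    obtain ⟨u, hu, p, rfl⟩ := (cl.mem_W₀ g).1 hgW
    refine ⟨u, hu, (AGFQuot23.ratPoint_ext (pr (u * (p ≫ cl.iP))) z hg).symm.trans ?_⟩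
    rw [← hPB, ← Category.assoc, hpr_B]
  have hO₀U : ∀ u ∈ cl.U, ptOf (pr u) ∈ O₀ := fun u hu =>
    ⟨ptOf u, (cl.mem_W₀ u).2 ⟨u, hu, 1, by rw [MonObj.one_comp, _root_.mul_one]⟩, rfl⟩
  have hconjU : ∀ (x : 𝟙_ (Over (Spec (CommRingCat.of k))) ⟶ C), ∀ u ∈ cl.U, pr ((x ≫ c) * u) = pr ((x ≫ c) * u * (x ≫ c)⁻¹) ∧
      (x ≫ c) * u * (x ≫ c)⁻¹ ∈ cl.U := by
    intro x u hu
    refine ⟨?_, ?_⟩
    · obtain ⟨b, hb⟩ := hCB x⁻¹
      rw [GrpObj.inv_comp] at hb
      rw [← hb, hpr_B]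
    · have h1 := cl.conj_mem x⁻¹ u hu
      rwa [GrpObj.inv_comp, _root_.inv_inv] at h1
  have hstab : ∀ (x : 𝟙_ (Over (Spec (CommRingCat.of k))) ⟶ C) z, ptOf z ∈ O₀ → ptOf (lift (x ≫ c) z ≫ a.act) ∈ O₀ := by
    intro x z hz
    obtain ⟨u, hu, rfl⟩ := hO₀pt z hz
    rw [← hpr_mul, (hconjU x u hu).1]
    exact hO₀U _ (hconjU x u hu).2
  -- the key statement
  have key : ∀ (V : Over (Spec (CommRingCat.of k))) [GrpObj V] [IsAffine V.left] [Smooth V.hom] [ConnectedSpace V.left]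
      (v : V ⟶ G) [IsMonHom v], Red.HasNoSubtorus k V →
      (∀ x : 𝟙_ (Over (Spec (CommRingCat.of k))) ⟶ V, ∃ y, y ≫ c = x ≫ v) →
      ∀ u₁ ∈ cl.U, ∀ u₂ ∈ cl.U,
        ptOf (pr u₂) ∈ closure (Set.range fun x : 𝟙_ (Over (Spec (CommRingCat.of k))) ⟶ V => ptOf (pr ((x ≫ v) * u₁))) →
        (∀ x : 𝟙_ (Over (Spec (CommRingCat.of k))) ⟶ V, pr ((x ≫ v) * u₂) = pr u₂) → pr u₁ = pr u₂ := by
    intro V _ _ _ _ v _ hV hvC u₁ hu₁ u₂ hu₂ hclosure hfixed
    haveI : LocallyOfFiniteType (V ⊗ H).hom := by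
      change LocallyOfFiniteType (pullback.fst V.hom H.hom ≫ V.hom)
      infer_instance
    haveI : Smooth (V ⊗ H).hom := by
      change Smooth (pullback.fst V.hom H.hom ≫ V.hom)
      infer_instance
    haveI : IsAffine (V ⊗ H).left := inferInstanceAs (IsAffine (pullback V.hom H.hom))
    haveI : ConnectedSpace (V ⊗ H).left := AlgGrpLib.SemiabSum.connectedSpace_tensor V H
    haveI : IsMonHom (iH ≫ iB) := inferInstance
    let act := twoSided v (iH ≫ iB)
    let F := Set.range (act.orbitMap u₁).left.base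
    have hF : IsClosed F := isClosed_orbit (hasNoSubtorus_tensor hV hHt) act u₁
    by_cases hu : ptOf u₂ ∈ F
    · obtain ⟨l, hl⟩ := AGFQuot23.exists_point_of_mem (act.orbitMap u₁) u₂ hu
      rw [comp_twoSided] at hl
      have h1 : pr (((l ≫ fst V H) ≫ v) * u₁) = pr u₂ := by
        rw [← hl, ← Category.assoc (l ≫ snd V H) iH iB, ← GrpObj.inv_comp, hpr_B]
      have h2 := hfixed (l ≫ fst V H)⁻¹
      rw [GrpObj.inv_comp, hpr_mul, ← h1, ← hpr_mul, inv_mul_cancel_left] at h2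
      exact h2.trans h1
    · exfalso
      obtain ⟨W, hWo, hW, hW'⟩ := cl.cell F hF u₂ hu₂ hu 1
      rw [MonObj.one_comp, _root_.mul_one] at hW
      obtain ⟨_, ⟨w, hwW, hw⟩, x, rfl⟩ := mem_closure_iff.1 hclosure _ (hopen W hWo) ⟨ptOf u₂, hW, rfl⟩
      obtain ⟨g, hgW, hg⟩ := AGFQuot23.exists_point_eq (Z := G)
        (S := W ∩ (a.orbitMap o).left.base ⁻¹' {ptOf (pr ((x ≫ v) * u₁))})
        (hWo.isLocallyClosed.inter ((AGFQuot23.isClosed_ptOf _).preimage
          (a.orbitMap o).left.continuous).isLocallyClosed) ⟨w, hwW, hw⟩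
      obtain ⟨u', hu', p', rfl, huF⟩ := hW' g hgW
      have h1 : pr u' = pr ((x ≫ v) * u₁) := by
        have h2 := AGFQuot23.ratPoint_ext (pr (u' * (p' ≫ cl.iP))) _ hg
        rwa [← hPB, ← Category.assoc, hpr_B] at h2
      obtain ⟨y, hy⟩ := hvC x
      rw [← hy, (hconjU y u₁ hu₁).1] at h1
      obtain ⟨b, hb⟩ := hpr_eq _ _ h1.symm
      have hbU : b ≫ iB ∈ cl.U := by
        have h2 := cl.U.mul_mem (cl.U.inv_mem (hconjU y u₁ hu₁).2) hu'
        rwa [hb, inv_mul_cancel_left] at h2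
      have hbπ : b ≫ π = 1 := cl.trivial_torus B S iB t ht hS π b hbU
      obtain ⟨vB, hvB⟩ : ∃ vB : V ⟶ B, vB ≫ iB = v := by
        haveI : IsReduced V.left := AbSchLib.isReduced_of_smooth V.hom
        refine AGFQuot23.exists_lift_of_points' v iB fun z => ?_
        obtain ⟨z', hz'⟩ := hvC z
        obtain ⟨z'', hz''⟩ := hCB z'
        exact ⟨ptOf z'', show ptOf (z'' ≫ iB) = _ by rw [hz'', hz']⟩
      haveI : IsMonHom (vB ≫ iB) := by rw [hvB]; infer_instance
      haveI := AGFQuot23.isMonHom_of_comp_mono' vB iB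
      have hxπ : (x ≫ vB) ≫ π = 1 := by
        rw [Category.assoc]; exact pt_to_torus_eq_one hV hS (vB ≫ π) x
      obtain ⟨kH, hkH⟩ := hHlift (b⁻¹ * (x ≫ vB)) (by
        rw [MonObj.mul_comp, GrpObj.inv_comp, hbπ, hxπ, inv_one, _root_.mul_one])
      refine huF ⟨ptOf (lift x kH), ?_⟩
      show ptOf (lift x kH ≫ act.orbitMap u₁) = ptOf u'
      rw [comp_twoSided, lift_fst, lift_snd, ← Category.assoc kH, hkH, MonObj.mul_comp, GrpObj.inv_comp,
        Category.assoc, hvB, _root_.mul_inv_rev, _root_.inv_inv, hb, hy]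
      simp only [_root_.mul_assoc]
  -- normalizing elements
  have hnorm : ∀ g, (∀ x : 𝟙_ (Over (Spec (CommRingCat.of k))) ⟶ T, lift (x ≫ i) (pr g) ≫ a.act = pr g) →
      ∃ n, pr n = pr g ∧ ∀ x : 𝟙_ (Over (Spec (CommRingCat.of k))) ⟶ C, ∃ x', x' ≫ c = n⁻¹ * (x ≫ c) * n := by
    intro g hg
    obtain ⟨t₂, ht₂⟩ : ∃ t₂ : T ⟶ B, t₂ ≫ iB = i ≫ cj g := AGFQuot23.exists_lift_of_points' (i ≫ cj g) iB fun x => by
      have h1 := hg x
      rw [← hpr_mul] at h1
      obtain ⟨b, hb⟩ := hpr_eq _ _ h1.symm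
      refine ⟨ptOf b, show ptOf (b ≫ iB) = _ from congrArg ptOf ?_⟩
      rw [← Category.assoc x i (cj g), comp_cj, _root_.mul_assoc, hb, inv_mul_cancel_left]
    haveI : IsMonHom (t₂ ≫ iB) := by rw [ht₂]; infer_instance
    haveI := AGFQuot23.isMonHom_of_comp_mono' t₂ iB
    obtain ⟨v₁, hv₁⟩ := huniv T hTt t
    obtain ⟨v₂, hv₂⟩ := huniv T hTt t₂
    have hpt : ∀ {W : Over (Spec (CommRingCat.of k))} (x : 𝟙_ (Over (Spec (CommRingCat.of k))) ⟶ W)
        (v : 𝟙_ (Over (Spec (CommRingCat.of k))) ⟶ B), x ≫ toUnit W ≫ v = v := fun x v => by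
      rw [← Category.assoc, toUnit_unique (x ≫ toUnit _) (𝟙 _), Category.id_comp]
    -- the complement is the given torus
    let j : S ⟶ G := s ≫ iB ≫ cj (v₁ ≫ iB)⁻¹
    haveI : IsMonHom j := inferInstance
    haveI : Mono s := (SplitMono.mk π hsπ).mono
    haveI : Mono j := inferInstance
    haveI : IsReduced S.left := by
      haveI : Smooth S.hom := AlgGrpLib.AxesTorus.smooth_of_isTorus hS
      exact AbSchLib.isReduced_of_smooth S.hom
    have hj : (t ≫ π) ≫ j = i := by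
      refine AGFQuot23.hom_ext_of_points _ _ fun x => ?_
      conv_rhs => rw [← ht, hv₁]
      simp only [MonObj.mul_comp, GrpObj.inv_comp, MonObj.comp_mul, GrpObj.comp_inv, Category.assoc]
      simp only [← Category.assoc, toUnit_unique (x ≫ toUnit T) (𝟙 _), Category.id_comp]
      simp only [j, ← Category.assoc, comp_cj, _root_.inv_inv]
    haveI : IsIso (t ≫ π) := hT.2.2.2 S j (t ≫ π) hS hj
    let f : T ⟶ T := (t₂ ≫ π) ≫ CategoryTheory.inv (t ≫ π)
    let m : 𝟙_ (Over (Spec (CommRingCat.of k))) ⟶ G := g * ((v₂ * v₁⁻¹) ≫ iB)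
    have hf : ∀ x : 𝟙_ (Over (Spec (CommRingCat.of k))) ⟶ T, x ≫ f ≫ i = m⁻¹ * (x ≫ i) * m := fun x => by
      have hfi : f ≫ i = (t₂ ≫ π) ≫ j := by
        calc f ≫ i = f ≫ (t ≫ π) ≫ j := by rw [hj]
          _ = (t₂ ≫ π) ≫ j := by
            show ((t₂ ≫ π) ≫ CategoryTheory.inv (t ≫ π)) ≫ (t ≫ π) ≫ j = _
            rw [Category.assoc, IsIso.inv_hom_id_assoc]
      rw [hfi]
      simp only [Category.assoc]
      have h1 := congrArg (fun q => x ≫ q) ht₂
      rw [← Category.assoc, ← Category.assoc x i, comp_cj] at h1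
      have h2 : x ≫ t₂ = v₂ * (x ≫ t₂ ≫ π ≫ s) * v₂⁻¹ := by
        conv_lhs => rw [hv₂]
        simp only [MonObj.comp_mul, GrpObj.comp_inv, hpt]
      rw [h2, MonObj.mul_comp, MonObj.mul_comp, GrpObj.inv_comp] at h1
      simp only [j, ← Category.assoc, comp_cj]
      simp only [Category.assoc] at h1 ⊢
      simp only [m, MonObj.mul_comp, GrpObj.inv_comp, _root_.mul_inv_rev, _root_.inv_inv]
      have h3 : x ≫ t₂ ≫ π ≫ s ≫ iB = (v₂ ≫ iB)⁻¹ * (g⁻¹ * (x ≫ i) * g) * (v₂ ≫ iB) := by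
        rw [← h1]; group
      rw [h3]; group
    haveI : IsIso f := by
      refine hT.2.2.2 T (i ≫ cj m⁻¹) f hTt ?_
      refine AGFQuot23.hom_ext_of_points _ _ fun x => ?_
      rw [← Category.assoc, ← Category.assoc, comp_cj, Category.assoc, hf, _root_.inv_inv]
      group
    refine ⟨m, hpr_B g _, fun x => hCmem _ fun y => ?_⟩
    have h1 := hf (y ≫ CategoryTheory.inv f)
    simp only [Category.assoc, IsIso.inv_hom_id_assoc] at h1
    rw [h1]
    have h2 := hCcomm x (y ≫ CategoryTheory.inv f)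
    simp only [Category.assoc] at h2
    simp only [_root_.mul_assoc, mul_inv_cancel_left]
    rw [← _root_.mul_assoc (x ≫ c), h2, _root_.mul_assoc]
  -- every point lies in a translated cell
  have hcover : ∀ z, ∃ n, ptOf (lift n⁻¹ z ≫ a.act) ∈ O₀ ∧
      ∀ x : 𝟙_ (Over (Spec (CommRingCat.of k))) ⟶ C, ∃ x', x' ≫ c = n⁻¹ * (x ≫ c) * n := by
    intro y
    let Z : Set X.left := closure (Set.range fun x : 𝟙_ (Over (Spec (CommRingCat.of k))) ⟶ C =>
      ptOf (lift (x ≫ c) y ≫ a.act))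
    obtain ⟨z, hzZ, hz⟩ := exists_fixed_in_closed (AGFQuot23.restrictAction a c) Z isClosed_closure
      ⟨_, subset_closure ⟨1, rfl⟩⟩ fun h z hz => by
        show ptOf (lift h z ≫ (c ▷ X) ≫ a.act) ∈ Z
        rw [lift_whiskerRight_assoc, ← comp_trans']
        refine map_mem_closure (f := (trans' a (h ≫ c)).left.base) (trans' a (h ≫ c)).left.continuous hz ?_
        rintro _ ⟨x, rfl⟩
        refine ⟨h * x, ?_⟩
        show ptOf (lift ((h * x) ≫ c) y ≫ a.act) = ptOf ((lift (x ≫ c) y ≫ a.act) ≫ trans' a (h ≫ c))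
        rw [comp_trans', ← AGFQuot23.act_mul, MonObj.mul_comp]
    obtain ⟨g, rfl⟩ := AGFQuot23.exists_ratPoint_lift (a.orbitMap o) z
    obtain ⟨n, hn, hn'⟩ := hnorm g fun x => by
      have h := hz (x ≫ tC)
      change lift _ _ ≫ (c ▷ X) ≫ a.act = _ at h
      rwa [lift_whiskerRight_assoc, Category.assoc, htC] at h
    refine ⟨n, ?_, hn'⟩
    have h1 : ptOf (pr g) ∈ (trans' a n⁻¹).left.base ⁻¹' O₀ := by
      show ptOf (pr g ≫ trans' a n⁻¹) ∈ O₀
      rw [comp_trans', ← hn, ← hpr_mul, inv_mul_cancel]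
      exact hO₀U 1 (one_mem _)
    obtain ⟨_, hw, x, rfl⟩ := mem_closure_iff.1 hzZ _ (hO₀.preimage (trans' a n⁻¹).left.continuous) h1
    have h2 : ptOf ((lift (x ≫ c) y ≫ a.act) ≫ trans' a n⁻¹) ∈ O₀ := hw
    obtain ⟨x', hx'⟩ := hn' x
    have h3 := hstab x'⁻¹ _ h2
    rw [comp_trans', ← AGFQuot23.act_mul, GrpObj.inv_comp, hx', ← AGFQuot23.act_mul] at h3
    simpa [_root_.mul_assoc] using h3
  intro V _ _ _ _ iV _ hV hVC
  have hfixall : ∀ y, ∀ x : 𝟙_ (Over (Spec (CommRingCat.of k))) ⟶ V, lift (x ≫ iV) y ≫ a.act = y := by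
    intro y
    haveI : Group.IsSolvable (𝟙_ (Over (Spec (CommRingCat.of k))) ⟶ V) := by
      obtain ⟨A, _, _, e, he, hem, _, hU⟩ := exists_unipotent_spec V hV
      haveI := he; haveI := hem
      haveI : Group.IsSolvable (DynLib.Pt k A k) := S3267.result k A (AGFQuot23.isTrigonalizable_of_isUnipotent hU)
      exact solvable_of_surjective (f := phi e) (phi_surjective e)
    let Z : Set X.left := closure (Set.range fun x : 𝟙_ (Over (Spec (CommRingCat.of k))) ⟶ V =>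
      ptOf (lift (x ≫ iV) y ≫ a.act))
    obtain ⟨z, hzZ, hz⟩ := exists_fixed_in_closed (AGFQuot23.restrictAction a iV) Z isClosed_closure
      ⟨_, subset_closure ⟨1, rfl⟩⟩ fun h z hz => by
        show ptOf (lift h z ≫ (iV ▷ X) ≫ a.act) ∈ Z
        rw [lift_whiskerRight_assoc, ← comp_trans']
        refine map_mem_closure (f := (trans' a (h ≫ iV)).left.base) (trans' a (h ≫ iV)).left.continuous hz ?_
        rintro _ ⟨x, rfl⟩
        refine ⟨h * x, ?_⟩
        show ptOf (lift ((h * x) ≫ iV) y ≫ a.act) = ptOf ((lift (x ≫ iV) y ≫ a.act) ≫ trans' a (h ≫ iV))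
        rw [comp_trans', ← AGFQuot23.act_mul, MonObj.mul_comp]
    have hz' : ∀ x : 𝟙_ (Over (Spec (CommRingCat.of k))) ⟶ V, lift (x ≫ iV) z ≫ a.act = z := fun x => by
      have h := hz x
      change lift _ _ ≫ (iV ▷ X) ≫ a.act = _ at h
      rwa [lift_whiskerRight_assoc] at h
    obtain ⟨n, hnO, hnC⟩ := hcover z
    obtain ⟨u₂, hu₂, hu₂e⟩ := hO₀pt _ hnO
    obtain ⟨_, hw, x, rfl⟩ := mem_closure_iff.1 hzZ _ (hO₀.preimage (trans' a n⁻¹).left.continuous)
      (show ptOf z ∈ (trans' a n⁻¹).left.base ⁻¹' O₀ by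
        show ptOf (z ≫ trans' a n⁻¹) ∈ O₀
        rwa [comp_trans'])
    have h2 : ptOf ((lift (x ≫ iV) y ≫ a.act) ≫ trans' a n⁻¹) ∈ O₀ := hw
    haveI : IsMonHom (iV ≫ cj n) := inferInstance
    have hvC : ∀ x : 𝟙_ (Over (Spec (CommRingCat.of k))) ⟶ V, ∃ x', x' ≫ c = x ≫ iV ≫ cj n := fun x => by
      obtain ⟨x₀, hx₀⟩ := hVC x
      obtain ⟨x', hx'⟩ := hnC x₀
      exact ⟨x', by rw [hx', hx₀, ← Category.assoc, comp_cj]⟩
    obtain ⟨x', hx'⟩ := hvC x
    have h3 := hstab x'⁻¹ _ h2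
    rw [comp_trans', ← AGFQuot23.act_mul, GrpObj.inv_comp, hx', ← Category.assoc, comp_cj, ← AGFQuot23.act_mul] at h3
    obtain ⟨u₁, hu₁, hu₁e⟩ := hO₀pt _ h3
    simp only [_root_.mul_inv_rev, _root_.inv_inv, _root_.mul_assoc, mul_inv_cancel_left, inv_mul_cancel_left,
      mul_inv_cancel, inv_mul_cancel, _root_.mul_one] at hu₁e
    have htr : ∀ x : 𝟙_ (Over (Spec (CommRingCat.of k))) ⟶ V, ∀ u y', lift n⁻¹ y' ≫ a.act = pr u →
        pr ((x ≫ iV ≫ cj n) * u) = (lift (x ≫ iV) y' ≫ a.act) ≫ trans' a n⁻¹ := fun x u y' hu => by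
      rw [hpr_mul, ← hu, comp_trans', ← AGFQuot23.act_mul, ← AGFQuot23.act_mul, ← Category.assoc, comp_cj]
      simp [_root_.mul_assoc]
    have hfin := key V (iV ≫ cj n) hV hvC u₁ hu₁ u₂ hu₂ (by
      rw [← hu₂e, ← comp_trans']
      refine map_mem_closure (f := (trans' a n⁻¹).left.base) (trans' a n⁻¹).left.continuous hzZ ?_
      rintro _ ⟨x, rfl⟩
      exact ⟨x, congrArg ptOf (htr x u₁ y hu₁e)⟩) fun x => by
        rw [htr x u₂ z hu₂e, hz', comp_trans', hu₂e]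
    rw [← hu₁e, ← hu₂e] at hfin
    have hyz : y = z := by
      have h4 := congrArg (fun q => lift n q ≫ a.act) hfin
      simpa only [← AGFQuot23.act_mul, mul_inv_cancel, AGFQuot23.act_one] using h4
    intro x
    rw [hyz]
    exact hz' x
  intro x g
  have h1 := hfixall (pr g) x
  rw [← hpr_mul] at h1
  obtain ⟨b, hb⟩ := hpr_eq _ _ h1.symm
  exact ⟨b, by rw [_root_.mul_assoc, hb, inv_mul_cancel_left]⟩

end Groth.Agent.Luna12
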