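import Groth.Agent.CentConn12.Main
import Groth.Agent.HMTor29.MaxTorus
import Groth.Agent.AGFQuot23.BorelFun
import Groth.Agent.AGFImage11.RadicalDescent
import Groth.Agent.BorelImg10.Main
import Groth.Agent.SGA3cLib.MultFibTrivAction
import Groth.Agent.SGA3cLib.CentralFib
import Groth.Agent.TorusAb27.Basic

/-!
# In a connected solvable group the normalizer of a torus centralizes it
-/

set_option autoImplicit false
set_option backward.isDefEq.respectTransparency.types false
set_option maxHeartbeats 2000000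
set_option synthInstance.maxHeartbeats 400000
set_option linter.style.haveILetI false

universe u

open CategoryTheory CategoryTheory.Limits MonoidalCategory CartesianMonoidalCategory MonObj GrpObj AlgebraicGeometry
open WithConv
open Groth.Agent.AlgGrpLib (ptOf)
open Groth.Agent.SGA3cLib

noncomputable section

namespace Groth.Agent.Luna12

open Groth.Agent.CentConn12

variable {k : Type u} [Field k] [IsAlgClosed k]

/-- Points commuting with a torus in an affine central quotient with connected kernel commute with it. -/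
theorem commute_of_central_quotient {G W K T : Over (Spec (CommRingCat.of k))} [GrpObj G] [GrpObj W] [GrpObj K]
    [GrpObj T] [Smooth G.hom] [QuasiCompact G.hom] [ConnectedSpace G.left] [IsAffine W.left] [Smooth W.hom]
    [ConnectedSpace W.left] [ConnectedSpace K.left] (p : G ⟶ W) [IsMonHom p] [Flat p.left] [Surjective p.left]
    (v : K ⟶ G) [IsMonHom v] (hker : AlgGrp.IsKernel v p)
    (hcen : ∀ (X : Over (Spec (CommRingCat.of k))) (a : X ⟶ K) (g : X ⟶ G), (a ≫ v) * g = g * (a ≫ v))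
    (hT : Red.IsTorus T) (j : T ⟶ G) [IsMonHom j] (g : 𝟙_ (Over (Spec (CommRingCat.of k))) ⟶ G)
    (hg : ∀ t : 𝟙_ (Over (Spec (CommRingCat.of k))) ⟶ T, (g ≫ p) * (t ≫ j ≫ p) = (t ≫ j ≫ p) * (g ≫ p)) :
    ∀ (X : Over (Spec (CommRingCat.of k))) (t : X ⟶ T), (toUnit X ≫ g) * (t ≫ j) = (t ≫ j) * (toUnit X ≫ g) := by
  haveI : IsSeparated G.hom := SGA3xLib.isSeparated_of_grpObj G
  haveI : QuasiCompact W.hom := (quasiCompact_iff_compactSpace W.hom).2 inferInstance
  haveI : IsSeparated W.hom := SGA3xLib.isSeparated_of_grpObj W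
  haveI : IsMonHom (j ≫ p) := inferInstance
  obtain ⟨CW, _, cW, hCW, hcWcl, hCWs⟩ := Groth.Agent.SGA3cLib.MTTransporter.exists_centralizer (j ≫ p)
    (Groth.Agent.SGA3cLib.CentralFib.locally_of_multTypeFT (Groth.Agent.MultExt26.isMultTypeFT_of_torus T hT))
  haveI := hcWcl; haveI := hCWs; haveI := hCW.1; haveI := hCW.2.1
  haveI : ConnectedSpace CW.left := connected_affine hT (j ≫ p) hCW
  haveI : IsClosedImmersion (η[W]).left := by
    haveI : IsClosedImmersion ((η[W]).left ≫ W.hom) := by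
      rw [Over.w]
      exact inferInstanceAs (IsClosedImmersion (𝟙 (Spec (CommRingCat.of k))))
    exact IsClosedImmersion.of_comp (η[W]).left W.hom
  haveI : Mono v := by
    refine ⟨fun {X} a b hab => ?_⟩
    exact hker.hom_ext hab (toUnit_unique _ _)
  haveI : IsClosedImmersion v.left :=
    MorphismProperty.of_isPullback (P := @IsClosedImmersion) ((hker.map (Over.forget _)).flip) (show IsClosedImmersion (η[W]).left from inferInstance)
  haveI : LocallyOfFiniteType K.hom := by rw [← Over.w v]; infer_instance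
  haveI : QuasiCompact K.hom := by rw [← Over.w v]; infer_instance
  have hKcomm : ∀ (X : Over (Spec (CommRingCat.of k))) (a b : X ⟶ K), a * b = b * a := fun X a b => by
    rw [← cancel_mono v, MonObj.mul_comp, MonObj.mul_comp, hcen X a (b ≫ v)]
  haveI : IsCommMonObj K := ⟨by
    rw [show (β_ K K).hom = lift (snd K K) (fst K K) by ext <;> simp, ← Hom.mul_def, hKcomm, Hom.mul_def,
      lift_fst_snd, Category.id_comp]⟩
  -- the preimage of the centralizer in the affine quotient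
  let P : Set G.left := p.left ⁻¹' Set.range cW.left
  have hPcl : IsClosed P := cW.left.isClosedEmbedding.isClosed_range.preimage p.left.continuous
  have hPconn : _root_.IsConnected P := by
    have hcop : IsOpenMap p.left := by
      haveI := AlgGrpLib.ExactSeqBasics.locallyOfFinitePresentation_left p
      exact p.left.isOpenMap
    exact ((hcop.isQuotientMap p.left.continuous p.left.surjective).isCoinducing).isConnected_preimage_of_isClosed
      (fun y => by
        obtain ⟨a, rfl⟩ := p.left.surjective y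
        exact AlgGrpLib.ExactSeqBasics.isConnected_preimage p v hker a) cW.left.isClosedEmbedding.isClosed_range
      (isConnected_range cW.left.continuous)
  obtain ⟨N, _, r, ε, eT, _, _⟩ := HMTor29.MaxTorus.isFreeDiag_of_isTorus T hT
  haveI : IsIso eT.left := inferInstanceAs (IsIso ((Over.forget _).map eT))
  haveI : IsDomain (MonoidAlgebra k (Multiplicative (Fin r → ℤ))) := NoZeroDivisors.to_isDomain _
  haveI : IsDomain (MonoidAlgebra k N) := (MonoidAlgebra.mapDomainRingEquiv k ε).toMulEquiv.isDomain _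
  let Sp := HopfQuot.spec (k := k) (MonoidAlgebra k N)
  haveI : IsReduced Sp.left := inferInstanceAs (IsReduced (Spec (CommRingCat.of (MonoidAlgebra k N))))
  haveI : Smooth T.hom := AlgGrpLib.AxesTorus.smooth_of_isTorus hT
  haveI : LocallyOfFiniteType Sp.hom := by rw [← Over.w eT]; infer_instance
  let m : Sp ⟶ G := eT ≫ j
  haveI : Smooth T.hom := AlgGrpLib.AxesTorus.smooth_of_isTorus hT
  haveI : IsReduced T.left := AbSchLib.isReduced_of_smooth T.hom
  have hgP : ptOf g ∈ P := by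
    have hTW : (toUnit T ≫ g ≫ p) * (j ≫ p) = (j ≫ p) * (toUnit T ≫ g ≫ p) :=
      AGFQuot23.hom_ext_of_points _ _ fun t => by
        simp only [MonObj.comp_mul, ← Category.assoc, toUnit_unique (t ≫ toUnit T) (𝟙 _), Category.id_comp]
        simpa only [Category.assoc] using hg t
    obtain ⟨y, hy⟩ := (hCW.2.2 _ (g ≫ p)).2 fun X' x h => by
      have h1 := congrArg (fun f => h ≫ f) hTW
      simp only [MonObj.comp_mul, ← Category.assoc, toUnit_unique (h ≫ toUnit T) x] at h1
      simpa only [Category.assoc] using h1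
    exact ⟨ptOf y, congrArg (fun f : _ ⟶ W => ptOf f) hy⟩
  have hg := hgP
  -- commutators lie in the kernel
  have hdk : ∀ g : 𝟙_ (Over (Spec (CommRingCat.of k))) ⟶ G, ptOf g ∈ P →
      ∀ s : 𝟙_ (Over (Spec (CommRingCat.of k))) ⟶ Sp, ∃ a : 𝟙_ (Over (Spec (CommRingCat.of k))) ⟶ K,
        a ≫ v = g * (s ≫ m) * g⁻¹ * (s ≫ m)⁻¹ := by
    intro g hg s
    obtain ⟨y, hy⟩ := AGFQuot23.exists_point_of_mem cW (g ≫ p) hg
    have h1 := (hCW.2.2 _ (g ≫ p)).1 ⟨y, hy⟩ _ (𝟙 _) (s ≫ eT)
    simp only [Category.id_comp, Category.assoc] at h1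
    obtain ⟨a, ha, -⟩ := hker.exists_lift (g * (s ≫ m) * g⁻¹ * (s ≫ m)⁻¹) (toUnit _) (by
      simp only [MonObj.mul_comp, GrpObj.inv_comp, m, Category.assoc, h1, mul_inv_cancel_right, mul_inv_cancel]
      simp [Hom.one_def])
    exact ⟨a, ha⟩
  -- torsion points
  have htor : ∀ (w : HopfQuot.Pt k (MonoidAlgebra k N) k) (n : ℕ), (n : k) ≠ 0 → w ^ n = 1 →
      g * (AGFQuot23.ratPt w ≫ m) * g⁻¹ * (AGFQuot23.ratPt w ≫ m)⁻¹ = 1 := by
    intro w n hn hw
    let φ : HopfQuot.Pt k (MonoidAlgebra k N) k →* (𝟙_ (Over (Spec (CommRingCat.of k))) ⟶ G) :=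
      MonoidHom.mk' (fun w => AGFQuot23.ratPt w ≫ m) fun a b => by rw [AGFQuot23.ratPt_mul, MonObj.mul_comp]
    let s := φ w
    have hs : s ^ n = 1 := by rw [← map_pow, hw, map_one]
    haveI : Etale ((𝟙 K : K ⟶ K) ^ n).left := S4112.result k K n hn
    haveI := FlatMorWeight.locallyQuasiFinite_of_etale ((𝟙 K : K ⟶ K) ^ n).left
    haveI : QuasiCompact ((𝟙 K : K ⟶ K) ^ n).left := by
      haveI : IsSeparated K.hom := SGA3xLib.isSeparated_of_grpObj K
      haveI : QuasiCompact (((𝟙 K : K ⟶ K) ^ n).left ≫ K.hom) := by rw [Over.w]; infer_instance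
      exact QuasiCompact.of_comp _ K.hom
    let F : Set G.left := ptOf '' {y | ∃ a : 𝟙_ (Over (Spec (CommRingCat.of k))) ⟶ K, a ≫ v = y ∧ a ^ n = 1}
    have hF : F.Finite := by
      refine (((𝟙 K : K ⟶ K) ^ n).left.finite_preimage_singleton
        (ptOf (1 : 𝟙_ (Over (Spec (CommRingCat.of k))) ⟶ K))).image v.left |>.subset ?_
      rintro _ ⟨_, ⟨a, rfl, ha⟩, rfl⟩
      refine ⟨ptOf a, ?_, rfl⟩
      have h2 : a ≫ ((𝟙 K : K ⟶ K) ^ n) = 1 := by rw [MonObj.comp_pow, Category.comp_id, ha]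
      exact congrArg (fun f : _ ⟶ K => ptOf f) h2
    have hFc : ∀ x ∈ F, IsClosed ({x} : Set G.left) := by
      rintro _ ⟨y, -, rfl⟩
      exact AGFQuot23.isClosed_ptOf y
    let f : G ⟶ G := 𝟙 G * (toUnit G ≫ s) * (𝟙 G)⁻¹ * (toUnit G ≫ s)⁻¹
    have hf : ∀ x : 𝟙_ (Over (Spec (CommRingCat.of k))) ⟶ G, x ≫ f = x * s * x⁻¹ * s⁻¹ := by
      intro x
      simp only [f, MonObj.comp_mul, GrpObj.comp_inv, Category.comp_id, ← Category.assoc,
        toUnit_unique (x ≫ toUnit G) (𝟙 _), Category.id_comp]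
    have hfF : f.left '' P ⊆ F := by
      rintro _ ⟨x, hx, rfl⟩
      have hFcl : IsClosed F := by
        rw [← Set.biUnion_of_singleton F]
        exact hF.isClosed_biUnion hFc
      refine (AGFQuot23.subset_of_forall_point (Z := G) hPcl.isLocallyClosed (hFcl.preimage f.left.continuous)
        (fun z hz => ?_)) hx
      obtain ⟨a, ha⟩ := hdk z hz (AGFQuot23.ratPt w)
      refine ⟨z ≫ f, ⟨a, by rw [hf z]; exact ha, ?_⟩, rfl⟩
      rw [← cancel_mono v, MonObj.pow_comp, MonObj.one_comp, ha]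
      show (z * s * z⁻¹ * s⁻¹) ^ n = 1
      have h4 : Commute (z * s * z⁻¹ * s⁻¹) s := by
        rw [show z * s * z⁻¹ * s⁻¹ = a ≫ v from ha.symm]
        exact hcen _ a s
      have h5 := h4.mul_pow n
      rw [inv_mul_cancel_right, conj_pow, hs, _root_.mul_one, mul_inv_cancel, _root_.mul_one] at h5
      exact h5.symm
    have h1P : ptOf (1 : 𝟙_ (Over (Spec (CommRingCat.of k))) ⟶ G) ∈ P := by
      refine ⟨ptOf (1 : 𝟙_ (Over (Spec (CommRingCat.of k))) ⟶ CW), ?_⟩
      exact congrArg (fun f : _ ⟶ W => ptOf f)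
        ((MonObj.one_comp cW).trans (MonObj.one_comp p).symm :
          (1 : 𝟙_ (Over (Spec (CommRingCat.of k))) ⟶ CW) ≫ cW = 1 ≫ p)
    have h6 := subsingleton_of_finite hF hFc (hPconn.2.image _ f.left.continuous.continuousOn) hfF
      ⟨_, hg, rfl⟩ ⟨_, h1P, rfl⟩
    have h7 : g ≫ f = (1 : 𝟙_ (Over (Spec (CommRingCat.of k))) ⟶ G) ≫ f := AGFQuot23.ratPoint_ext _ _ h6
    rw [hf, hf] at h7
    simpa [s, φ] using h7
  let u : Sp ⟶ G := toUnit Sp ≫ g
  let d : Sp ⟶ G := u * m * u⁻¹ * m⁻¹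
  have hd : ∀ s : 𝟙_ (Over (Spec (CommRingCat.of k))) ⟶ Sp, s ≫ d = g * (s ≫ m) * g⁻¹ * (s ≫ m)⁻¹ := by
    intro s
    simp only [d, u, MonObj.comp_mul, GrpObj.comp_inv, ← Category.assoc (h := g),
      toUnit_unique (s ≫ toUnit Sp) (𝟙 _), Category.id_comp]
  have hd1 : d = 1 := by
    refine AGFQuot23.hom_ext_of_points d 1 fun s => ?_
    rw [MonObj.comp_one]
    refine AGFQuot23.ratPoint_ext _ _ ?_
    have hZ := torsion_dense ε ((AGFQuot23.isClosed_ptOf (1 : 𝟙_ (Over (Spec (CommRingCat.of k))) ⟶ G)).preimage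
      d.left.continuous) (fun w n hn hw => congrArg (fun f : _ ⟶ G => ptOf f) ((hd _).trans (htor w n hn hw)))
    exact Set.eq_univ_iff_forall.1 hZ (ptOf s)
  intro X t
  have h8 : u * m = m * u := by
    have h9 : u * m * u⁻¹ * m⁻¹ = 1 := hd1
    rwa [mul_inv_eq_one, mul_inv_eq_iff_eq_mul] at h9
  have h10 := congrArg (fun f => (t ≫ CategoryTheory.inv eT) ≫ f) h8
  simp only [u, m, MonObj.comp_mul, Category.assoc, IsIso.inv_hom_id_assoc] at h10
  rwa [← Category.assoc (CategoryTheory.inv eT), ← Category.assoc t,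
    toUnit_unique (t ≫ CategoryTheory.inv eT ≫ toUnit _) (toUnit X)] at h10

/-- A rational point normalizing a torus of a connected solvable group commutes with it. -/
theorem commute_of_norm_pt {B T : Over (Spec (CommRingCat.of k))} [GrpObj B] [GrpObj T] [Smooth B.hom]
    [QuasiCompact B.hom] [ConnectedSpace B.left] (hB : Red.IsSolvableGrp B) (hT : Red.IsTorus T) (t : T ⟶ B)
    [IsMonHom t] (g : 𝟙_ (Over (Spec (CommRingCat.of k))) ⟶ B)
    (hg : ∀ τ : 𝟙_ (Over (Spec (CommRingCat.of k))) ⟶ T, ∃ τ', g * (τ ≫ t) * g⁻¹ = τ' ≫ t) :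
    ∀ (X : Over (Spec (CommRingCat.of k))) (τ : X ⟶ T), (toUnit X ≫ g) * (τ ≫ t) = (τ ≫ t) * (toUnit X ≫ g) := by
  obtain ⟨W, _, p, K, _, v, hp, hWa, hWs, hWc, hpf, hps, hv, hKc, hker, hcen⟩ :=
    ConjConst26.BorelMem.exists_affine_quotient (G := B)
  haveI := hp; haveI := hWa; haveI := hWs; haveI := hWc; haveI := hpf; haveI := hps; haveI := hKc; haveI := hv
  haveI : QuasiCompact W.hom := (quasiCompact_iff_compactSpace W.hom).2 inferInstance
  haveI : Group.IsSolvable (𝟙_ (Over (Spec (CommRingCat.of k))) ⟶ B) := by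
    obtain ⟨n, hn⟩ := hB; exact ⟨⟨n, hn _⟩⟩
  haveI : Group.IsSolvable (𝟙_ (Over (Spec (CommRingCat.of k))) ⟶ W) :=
    solvable_of_surjective (f := MonoidHom.mk' (fun x : 𝟙_ (Over (Spec (CommRingCat.of k))) ⟶ B => x ≫ p)
      fun a b => MonObj.mul_comp a b p) fun y => AGFQuot23.exists_ratPoint_lift p y
  obtain ⟨S, _, s, π, hS, hs, hπ, hsπ, huniv⟩ :=
    HMTor29.MaxTorus.exists_complement (H := W) (AGFQuot23.isSolvableGrp_of_points W)
  haveI := hs; haveI := hπ
  obtain ⟨w, hw⟩ := huniv T hT (t ≫ p)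
  refine commute_of_central_quotient p v hker hcen hT t g fun τ => ?_
  obtain ⟨τ', hτ'⟩ := hg τ
  have hpt : ∀ σ : 𝟙_ (Over (Spec (CommRingCat.of k))) ⟶ T,
      σ ≫ t ≫ p = w * (σ ≫ t ≫ p ≫ π ≫ s) * w⁻¹ := fun σ => by
    have h1 := congrArg (fun f => σ ≫ f) hw
    simp only [MonObj.comp_mul, GrpObj.comp_inv, ← Category.assoc, toUnit_unique (σ ≫ toUnit T) (𝟙 _),
      Category.id_comp] at h1
    simpa only [Category.assoc] using h1
  have h1 : (g ≫ p) * (τ ≫ t ≫ p) * (g ≫ p)⁻¹ = τ' ≫ t ≫ p := by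
    have h := congrArg (fun f => f ≫ p) hτ'
    simpa only [MonObj.mul_comp, GrpObj.inv_comp, Category.assoc] using h
  have h2 : τ ≫ t ≫ p ≫ π = τ' ≫ t ≫ p ≫ π := by
    have h := congrArg (fun f => f ≫ π) h1
    simp only [MonObj.mul_comp, GrpObj.inv_comp, Category.assoc] at h
    rwa [SGA3cLib.torus_mul_comm hS, inv_mul_cancel_left] at h
  have h3 : τ' ≫ t ≫ p = τ ≫ t ≫ p := by
    rw [hpt τ, hpt τ', reassoc_of% h2]
  rw [h3, mul_inv_eq_iff_eq_mul] at h1
  exact h1

/-- Points with arbitrary values normalizing a torus of a connected solvable group commute with it. -/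
theorem commute_of_norm {B T : Over (Spec (CommRingCat.of k))} [GrpObj B] [GrpObj T] [Smooth B.hom]
    [QuasiCompact B.hom] [ConnectedSpace B.left] (hB : Red.IsSolvableGrp B) (hT : Red.IsTorus T) (t : T ⟶ B)
    [IsMonHom t] {X : Over (Spec (CommRingCat.of k))} (g : X ⟶ B)
    (hg : ∀ (X' : Over (Spec (CommRingCat.of k))) (x : X' ⟶ X) (h : X' ⟶ T),
      ∃ h' : X' ⟶ T, (x ≫ g) * (h ≫ t) * (x ≫ g)⁻¹ = h' ≫ t) :
    ∀ (X' : Over (Spec (CommRingCat.of k))) (x : X' ⟶ X) (h : X' ⟶ T),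
      (x ≫ g) * (h ≫ t) = (h ≫ t) * (x ≫ g) := by
  let f := X.hom
  let xN : ∀ Z : Over X.left, (Over.map f).obj Z ⟶ X := fun Z => Over.homMk Z.hom rfl
  have hxN : ∀ {Z Z' : Over X.left} (z : Z ⟶ Z'), (Over.map f).map z ≫ xN Z' = xN Z := fun z =>
    Over.OverMorphism.ext (Over.w z)
  let P₀ : (Over.map f).obj (Red.bc f T) ⟶ T := (BCPoints.pt f T (Red.bc f T)).symm (𝟙 _)
  let c : ∀ Z : Over X.left, ((Over.map f).obj Z ⟶ T) → ((Over.map f).obj Z ⟶ B) := fun Z τ =>
    (xN Z ≫ g) * (τ ≫ t) * (xN Z ≫ g)⁻¹ * (τ ≫ t)⁻¹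
  let z : Red.bc f T ⟶ Red.bc f B := BCPoints.pt f B _ (c _ P₀)
  have hz : ∀ (Z : Over X.left) (τ : (Over.map f).obj Z ⟶ T),
      BCPoints.pt f T Z τ ≫ z = BCPoints.pt f B Z (c Z τ) := fun Z τ => by
    have hP : (Over.map f).map (BCPoints.pt f T Z τ) ≫ P₀ = τ := by
      apply (BCPoints.pt f T Z).injective
      rw [BCPoints.pt_map_comp, Equiv.apply_symm_apply, Category.comp_id]
    rw [← BCPoints.pt_map_comp]
    simp only [c, MonObj.comp_mul, GrpObj.comp_inv, ← Category.assoc, hP, hxN]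
  haveI : IsMonHom z := BCPoints.isMonHom_of_mul z fun Z x y => by
    obtain ⟨x, rfl⟩ := (BCPoints.pt f T Z).surjective x
    obtain ⟨y, rfl⟩ := (BCPoints.pt f T Z).surjective y
    rw [← BCPoints.pt_mul, hz, hz, hz, ← BCPoints.pt_mul]
    congr 1
    obtain ⟨x', hx'⟩ := hg _ (xN Z) x
    obtain ⟨y', hy'⟩ := hg _ (xN Z) y
    have hxy : (xN Z ≫ g) * ((x * y) ≫ t) * (xN Z ≫ g)⁻¹ = (x' * y') ≫ t := by
      rw [MonObj.mul_comp, MonObj.mul_comp, ← hx', ← hy']; group
    show (xN Z ≫ g) * ((x * y) ≫ t) * (xN Z ≫ g)⁻¹ * ((x * y) ≫ t)⁻¹ = _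
    simp only [c]
    rw [hxy, hx', hy', ← GrpObj.inv_comp, ← GrpObj.inv_comp, ← GrpObj.inv_comp, ← MonObj.mul_comp, ← MonObj.mul_comp,
      ← MonObj.mul_comp, ← MonObj.mul_comp]
    congr 1
    rw [_root_.mul_inv_rev, SGA3cLib.torus_mul_comm hT y⁻¹ x⁻¹, _root_.mul_assoc, ← _root_.mul_assoc y',
      SGA3cLib.torus_mul_comm hT y' x⁻¹, _root_.mul_assoc, _root_.mul_assoc]
  let act : AlgGrp.Action (Red.bc f T) (Red.bc f B) :=
    { act := (fst _ _ ≫ z) * snd _ _
      one_act := by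
        have h1 : fst (𝟙_ (Over X.left)) (Red.bc f B) ≫ η[Red.bc f B] = 1 := by
          rw [Hom.one_def]; congr 1
        rw [MonObj.comp_mul, whiskerRight_fst_assoc, IsMonHom.one_hom (f := z), whiskerRight_snd, leftUnitor_hom,
          h1, _root_.one_mul]
      mul_act := by
        rw [MonObj.comp_mul, whiskerRight_fst_assoc, IsMonHom.mul_hom (f := z), whiskerRight_snd]
        rw [show μ[Red.bc f B] = fst _ _ * snd _ _ by rw [Hom.mul_def, lift_fst_snd, Category.id_comp]]
        simp only [MonObj.comp_mul, tensorHom_fst, tensorHom_snd, whiskerLeft_fst_assoc, whiskerLeft_snd_assoc,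
          whiskerLeft_snd, associator_hom_fst_assoc, associator_hom_snd_fst_assoc, associator_hom_snd_snd, Category.assoc,
          _root_.mul_assoc] }
  haveI : LocallyOfFiniteType (Red.bc f B).hom := inferInstanceAs (LocallyOfFiniteType (pullback.snd B.hom f))
  have htriv := MultFibTriv.action_trivial (Red.bc f T) (Red.bc f B)
    (CentralFib.locally_of_multTypeFT (MultExt26.isMultTypeFT_of_torus _ (TorusAb27.isTorus_bc f T hT))) act
    (fun K _ ω Y p h x => by
      suffices hh : h ≫ z = 1 by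
        show lift h x ≫ ((fst _ _ ≫ z) * snd _ _) = x
        rw [MonObj.comp_mul, lift_fst_assoc, lift_snd, hh, _root_.one_mul]
      obtain ⟨τ, rfl⟩ := (BCPoints.pt f T Y).surjective h
      let L := AlgebraicClosure K
      let ψ : Spec (CommRingCat.of L) ⟶ Spec (CommRingCat.of K) := Spec.map (CommRingCat.ofHom (algebraMap K L))
      haveI : Surjective ψ := AGFImage11.surjective_fieldMap ψ
      haveI : Flat ψ := inferInstance
      let σ : Spec (CommRingCat.of L) ⟶ Spec (CommRingCat.of k) := ψ ≫ ω ≫ f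
      let BL := Red.bc σ B
      haveI : Smooth BL.hom := MorphismProperty.pullback_snd (P := @Smooth) B.hom σ inferInstance
      haveI : QuasiCompact BL.hom := MorphismProperty.pullback_snd (P := @QuasiCompact) B.hom σ inferInstance
      haveI : ConnectedSpace BL.left := BorelImg10.connectedSpace_bc B σ
      let x₀ : (Over.map σ).obj (𝟙_ (Over (Spec (CommRingCat.of L)))) ⟶ X := Over.homMk (ψ ≫ ω) (by
        show (ψ ≫ ω) ≫ f = 𝟙 _ ≫ σ
        rw [Category.id_comp, Category.assoc])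
      let gL := BCPoints.pt σ B (𝟙_ _) (x₀ ≫ g)
      have hgL : ∀ τ : 𝟙_ (Over (Spec (CommRingCat.of L))) ⟶ Red.bc σ T, ∃ τ',
          gL * (τ ≫ (Over.pullback σ).map t) * gL⁻¹ = τ' ≫ (Over.pullback σ).map t := fun τ => by
        obtain ⟨τ, rfl⟩ := (BCPoints.pt σ T _).surjective τ
        obtain ⟨τ', hτ'⟩ := hg _ x₀ τ
        refine ⟨BCPoints.pt σ T _ τ', ?_⟩
        rw [← BCPoints.pt_comp, ← BCPoints.pt_comp, ← hτ', BCPoints.pt_mul, BCPoints.pt_mul, BCPoints.pt_inv]
      haveI : IsMonHom ((Over.pullback σ).map t) := inferInstance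
      have hcomm := commute_of_norm_pt (AGFImage11.isSolvableGrp_bc σ B hB) (TorusAb27.isTorus_bc σ T hT)
        ((Over.pullback σ).map t) gL hgL
      -- a covering of the test scheme
      let Y' : Over (Spec (CommRingCat.of L)) := Over.mk (pullback.snd p.left ψ)
      let e : (Over.map σ).obj Y' ⟶ (Over.map f).obj Y := Over.homMk (pullback.fst p.left ψ) (by
        show pullback.fst p.left ψ ≫ Y.hom ≫ f = pullback.snd p.left ψ ≫ ψ ≫ ω ≫ f
        rw [← pullback.condition_assoc]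
        exact congrArg (fun q => pullback.fst p.left ψ ≫ q ≫ f) (Over.w p).symm)
      have he : e ≫ xN Y = (Over.map σ).map (toUnit Y') ≫ x₀ := Over.OverMorphism.ext (by
        show pullback.fst p.left ψ ≫ Y.hom = pullback.snd p.left ψ ≫ ψ ≫ ω
        rw [← pullback.condition_assoc]
        exact congrArg (fun q => pullback.fst p.left ψ ≫ q) (Over.w p).symm)
      have h5 := hcomm Y' (BCPoints.pt σ T Y' (e ≫ τ))
      rw [← BCPoints.pt_comp, ← BCPoints.pt_map_comp, ← BCPoints.pt_mul, ← BCPoints.pt_mul, ← Category.assoc,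
        ← he, Category.assoc, Category.assoc] at h5
      have h6 := (BCPoints.pt σ B Y').injective h5
      rw [← MonObj.comp_mul, ← MonObj.comp_mul] at h6
      haveI : Epi e := by
        refine ⟨fun a b hab => Over.OverMorphism.ext ?_⟩
        haveI : EffectiveEpi (pullback.fst p.left ψ) := inferInstance
        exact (cancel_epi (pullback.fst p.left ψ)).1 (congrArg CommaMorphism.left hab)
      rw [cancel_epi] at h6
      rw [hz, show c Y τ = 1 by simp only [c]; rw [h6, mul_inv_cancel_right, mul_inv_cancel]]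
      exact map_one (MonoidHom.mk' (BCPoints.pt f B Y) (BCPoints.pt_mul f)))
  intro X' x h
  let Z : Over X.left := Over.mk x.left
  let ι₀ : (Over.map f).obj Z ⟶ X' := Over.homMk (𝟙 X'.left) (by
    show 𝟙 X'.left ≫ X'.hom = x.left ≫ X.hom
    rw [Category.id_comp, Over.w x])
  let ι₁ : X' ⟶ (Over.map f).obj Z := Over.homMk (𝟙 X'.left) (by
    show 𝟙 X'.left ≫ x.left ≫ X.hom = X'.hom
    rw [Category.id_comp, Over.w x])
  have hι : ι₁ ≫ ι₀ = 𝟙 X' := Over.OverMorphism.ext (Category.id_comp _)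
  have hx : ι₁ ≫ xN Z = x := Over.OverMorphism.ext (Category.id_comp _)
  have h1 : lift (BCPoints.pt f T Z (ι₀ ≫ h)) (1 : Z ⟶ Red.bc f B) ≫ ((fst _ _ ≫ z) * snd _ _) = 1 :=
    htriv Z _ _
  rw [MonObj.comp_mul, lift_fst_assoc, lift_snd, _root_.mul_one, hz,
    ← map_one (MonoidHom.mk' (BCPoints.pt f B Z) (BCPoints.pt_mul f))] at h1
  have h2 := congrArg (fun q => ι₁ ≫ q) ((BCPoints.pt f B Z).injective h1)
  simp only [c, MonObj.comp_mul, GrpObj.comp_inv, MonObj.comp_one, ← Category.assoc, hι, hx, Category.id_comp] at h2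
  rwa [mul_inv_eq_one, mul_inv_eq_iff_eq_mul] at h2

end Groth.Agent.Luna12
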